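import Cfsg.Statements.S3254
import Cfsg.Agent.S4706
import Cfsg.Agent.DegPM2.Product
import Cfsg.Agent.SmallGroups.DegreeThree

/-!
# Simple groups of degree `3p`: the imprimitive case
-/

set_option autoImplicit false
set_option linter.style.haveILetI false

noncomputable section

namespace Cfsg.Agent.DegThreeP

open Cfsg MulAction
open scoped Classical

/-- A simple group with a Sylow `p`-normaliser of order `2p` has no normal Sylow subgroup. -/
theorem sylow_not_normal {G : Type*} [Group G] [Finite G] [IsSimpleGroup G] {p : ℕ} [Fact p.Prime]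
    (hp3 : 3 < p) (P : Sylow p G) (hN : Nat.card (Subgroup.normalizer ((P : Subgroup G) : Set G)) = 2 * p) :
    ¬ (P : Subgroup G).Normal := by
  have hp : p.Prime := Fact.out
  intro h
  rw [(Subgroup.normalizer_eq_top_iff).2 h, Subgroup.card_top] at hN
  obtain ⟨k, hk⟩ := P.2.exists_card_eq
  rcases h.eq_bot_or_eq_top with e | e
  · have h1 := P.pow_dvd_card_of_pow_dvd_card (n := 1) (by rw [pow_one, hN]; exact dvd_mul_left p 2)
    rw [show Nat.card P = Nat.card (P : Subgroup G) from rfl, e, Subgroup.card_bot, pow_one,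
      Nat.dvd_one] at h1
    omega
  · rw [show Nat.card P = Nat.card (P : Subgroup G) from rfl, e, Subgroup.card_top, hN] at hk
    have h2 : 2 ∣ p ^ k := ⟨p, hk.symm⟩
    have := (Nat.prime_dvd_prime_iff_eq Nat.prime_two hp).1 (Nat.prime_two.dvd_of_dvd_pow h2)
    omega

/-- The second conjunct of S3254. -/
theorem imprimitive {G : Type*} [Group G] [Finite G] [IsSimpleGroup G] (hG : ¬ IsMulCommutative G)
    (p : ℕ) (hp : p.Prime) (hp3 : 3 < p) {Ω : Type*} [Fintype Ω] [MulAction G Ω] [FaithfulSMul G Ω]
    (htr : MulAction.IsPretransitive G Ω) (hΩ : Fintype.card Ω = 3 * p)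
    (P : Sylow p G) (hN : Nat.card ↥(Subgroup.normalizer ((P : Subgroup G) : Set G)) = 2 * p)
    (hprim : ¬ MulAction.IsPreprimitive G Ω) :
    ∃ (F : Type) (_ : Field F) (_ : Fintype F) (m : ℕ), Fintype.card F = 2 ^ m ∧ p = 2 ^ m + 1 ∧
        Nonempty (G ≃* Matrix.ProjectiveSpecialLinearGroup (Fin 2) F) := by
  haveI := htr
  haveI := Fact.mk hp
  haveI : Nontrivial Ω := Fintype.one_lt_card_iff_nontrivial.1 (by omega)
  obtain ⟨a⟩ := (inferInstance : Nonempty Ω)
  have hidx : (stabilizer G a).index = 3 * p := by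
    rw [MulAction.index_stabilizer_of_transitive, Nat.card_eq_fintype_card, hΩ]
  have hnc : ¬ IsCoatom (stabilizer G a) := fun h =>
    hprim ((MulAction.isCoatom_stabilizer_iff_preprimitive G a).1 h)
  have hne : stabilizer G a ≠ ⊤ := fun h => by
    rw [h, Subgroup.index_top] at hidx; omega
  obtain ⟨K, hlt, hKne⟩ : ∃ K : Subgroup G, stabilizer G a < K ∧ K ≠ ⊤ := by
    by_contra h
    push Not at h
    exact hnc ⟨hne, h⟩
  have hmul := Subgroup.relIndex_mul_index hlt.le
  have hr1 : (stabilizer G a).relIndex K ≠ 1 := fun h =>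
    not_le_of_gt hlt (Subgroup.relIndex_eq_one.1 h)
  have hK1 : K.index ≠ 1 := fun h => hKne (Subgroup.index_eq_one.1 h)
  have hcore : K.normalCore = ⊥ :=
    (Subgroup.normalCore_normal K).eq_bot_or_eq_top.resolve_right fun h =>
      hKne (top_le_iff.1 (h ▸ Subgroup.normalCore_le K))
  have hpG : p ∣ Nat.card G := (dvd_mul_left p 2).trans (hN ▸ Subgroup.card_subgroup_dvd_card _)
  set φ := MulAction.toPermHom G (G ⧸ K) with hφdef
  have hφ : Function.Injective φ := by
    rw [← MonoidHom.ker_eq_bot_iff, hφdef, ← Subgroup.normalCore_eq_ker, hcore]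
  have hcases : K.index = p ∨ K.index = 3 := by
    have h3p : K.index ∣ 3 * p := ⟨(stabilizer G a).relIndex K, by rw [← hidx, ← hmul, mul_comm]⟩
    by_cases hpK : p ∣ K.index
    · left
      obtain ⟨e, he⟩ := hpK
      have he3 : e ∣ 3 := Nat.dvd_of_mul_dvd_mul_left hp.pos (by rw [← he, mul_comm p 3]; exact h3p)
      rcases (Nat.dvd_prime Nat.prime_three).1 he3 with e1 | e1
      · rw [he, e1, mul_one]
      · exfalso
        subst e1
        apply hr1
        have hpos : 0 < K.index := Nat.pos_of_ne_zero Subgroup.index_ne_zero_of_finite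
        refine Nat.eq_of_mul_eq_mul_right hpos ?_
        rw [hmul, one_mul, hidx, he, mul_comm]
    · right
      have := (Nat.Coprime.dvd_of_dvd_mul_right (hp.coprime_iff_not_dvd.2 hpK).symm h3p)
      exact ((Nat.dvd_prime Nat.prime_three).1 this).resolve_left hK1
  haveI : Fintype (G ⧸ K) := Fintype.ofFinite _
  rcases hcases with hKp | hK3
  swap
  · exfalso
    have h1 := Subgroup.card_dvd_of_injective φ hφ
    rw [Nat.card_perm, ← Subgroup.index_eq_card, hK3] at h1
    have := Nat.le_of_dvd (by decide) (hpG.trans h1)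
    rw [show Nat.factorial 3 = 6 by rfl] at this h1
    have h6 := hpG.trans h1
    interval_cases p <;> first | exact absurd hp (by decide) | exact absurd h6 (by decide)
  have hcard : Fintype.card (G ⧸ K) = p := by
    rw [← Nat.card_eq_fintype_card, ← Subgroup.index_eq_card, hKp]
  have hsurj := φ.rangeRestrict_surjective
  set P' : Sylow p φ.range := P.mapSurjective hsurj with hP'
  let e : G ≃* φ.range := MonoidHom.ofInjective hφ
  have hemap : ((P' : Subgroup φ.range)) = (P : Subgroup G).map e.toMonoidHom := by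
    rw [hP', Sylow.coe_mapSurjective]
    rfl
  have hN' : Nat.card (Subgroup.normalizer ((P' : Subgroup φ.range) : Set φ.range)) = 2 * p := by
    rw [hemap, ← Subgroup.map_equiv_normalizer_eq, ← hN]
    exact Nat.card_congr (Subgroup.equivMapOfInjective _ _ e.injective).symm.toEquiv
  rcases S4706.result (by omega) hcard φ.range P' hN' with h | ⟨m, F, i1, i2, hpm, hF, ⟨i⟩⟩
  · refine absurd ?_ (sylow_not_normal hp3 P hN)
    have h2 : ((P' : Subgroup φ.range).comap e.toMonoidHom).Normal := h.comap _
    rw [hemap] at h2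
    convert h2 using 1
    exact (Subgroup.comap_map_eq_self_of_injective e.injective _).symm
  · haveI := Fact.mk Nat.prime_two
    haveI : CharP F 2 := charP_of_card_eq_prime_pow hF
    exact ⟨F, i1, i2, m, hF, hpm, ⟨(e.trans i).trans DegPM2.pslEquiv.symm⟩⟩

end Cfsg.Agent.DegThreeP
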