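import Cfsg.Agent.DegThreeP.LocalBCent
import Cfsg.Agent.S4482

/-!
# The case `f = 2p - 1`: the order of the group
-/

set_option autoImplicit false
set_option linter.unusedSectionVars false
set_option linter.style.haveILetI false

noncomputable section

namespace Cfsg.Agent.DegThreeP

open Cfsg Subgroup MulAction
open scoped Classical

universe u v

variable {G : Type u} [Group G] [Fintype G] {Ω : Type v} [Fintype Ω] [MulAction G Ω] {p f c : ℕ}
variable {C : Chars G p f} {θ : IrrCharacter G} {Q : Param G Ω p} {L : Local G Ω p Q}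

/-- The conjugates of `w` under `M`: their number times the centraliser order is the order of `M`. -/
theorem card_conj_set {M : Subgroup G} {w : G} (P : G → Prop)
    (hP : ∀ t, P t ↔ ∃ m ∈ M, t = m * w * m⁻¹) :
    Nat.card {t // P t} * Nat.card ↥(M ⊓ centralizer ({w} : Set G)) = Nat.card M := by
  choose e he using fun t : {t // P t} => (hP t.1).1 t.2
  rw [← Nat.card_prod]
  refine Nat.card_congr
    { toFun := fun q => ⟨e q.1 * q.2, mul_mem (he q.1).1 q.2.2.1⟩
      invFun := fun m =>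
        (⟨(m : G) * w * (m : G)⁻¹, (hP _).2 ⟨m, m.2, rfl⟩⟩,
          ⟨(e ⟨(m : G) * w * (m : G)⁻¹, (hP _).2 ⟨m, m.2, rfl⟩⟩)⁻¹ * m, ?_⟩)
      left_inv := ?_
      right_inv := fun m => Subtype.ext (mul_inv_cancel_left _ _) }
  · have h := (he ⟨(m : G) * w * (m : G)⁻¹, (hP _).2 ⟨m, m.2, rfl⟩⟩).2
    have hm := (he ⟨(m : G) * w * (m : G)⁻¹, (hP _).2 ⟨m, m.2, rfl⟩⟩).1
    generalize e ⟨(m : G) * w * (m : G)⁻¹, (hP _).2 ⟨m, m.2, rfl⟩⟩ = a at h hm
    refine ⟨M.mul_mem (M.inv_mem hm) m.2, mem_centralizer_singleton_iff.2 ?_⟩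
    calc a⁻¹ * m * w = a⁻¹ * ((m : G) * w * (m : G)⁻¹) * m := by group
      _ = w * (a⁻¹ * m) := by rw [show (m : G) * w * (m : G)⁻¹ = a * w * a⁻¹ from h]; group
  · rintro ⟨t, x, hx⟩
    have hc : x * w = w * x := mem_centralizer_singleton_iff.1 hx.2
    have ht : e t * x * w * (e t * x)⁻¹ = t := by
      rw [mul_assoc (e t) x w, hc]
      calc e t * (w * x) * (e t * x)⁻¹ = e t * w * (e t)⁻¹ := by group
        _ = t := (he t).2.symm
    have : (⟨e t * x * w * (e t * x)⁻¹, (hP _).2 ⟨_, mul_mem (he t).1 hx.1, rfl⟩⟩ : {t // P t}) =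
        t := Subtype.ext ht
    simp only [Prod.mk.injEq, Subtype.mk.injEq]
    have he' := congrArg e this
    exact ⟨this, Subtype.ext (by show _⁻¹ * _ = x; rw [he']; exact inv_mul_cancel_left _ _)⟩

variable (h : BHyp C θ Q L c)
include h

theorem BHyp.card_T_centralizer {u : G} (hu : u ∈ (L.T : Subgroup G)) (huz : L.z ≠ u)
    (hu2 : u * u = 1) (hu1 : u ≠ 1) (hσ : L.σ * u * L.σ⁻¹ ≠ u) :
    Nat.card ↥((L.T : Subgroup G) ⊓ centralizer ({u} : Set G)) = 4 := by
  have hzu : L.z * u = u * L.z := (mem_centralizer_singleton_iff.1 (L.T_comm_z hu)).symm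
  have hz1 : L.z ≠ 1 := fun e => by
    have := L.orderOf_z; rw [e, orderOf_one] at this; omega
  obtain ⟨U, hU, hzU, huU, hUmem⟩ := GW.four_of_commuting L.z_sq hu2 hz1 hu1 huz hzu
  have hle : U ≤ (L.T : Subgroup G) ⊓ centralizer ({u} : Set G) := fun x hx => by
    have hz' : L.z ∈ (L.T : Subgroup G) ⊓ centralizer ({u} : Set G) :=
      ⟨L.z_mem, mem_centralizer_singleton_iff.2 hzu⟩
    have hu' : u ∈ (L.T : Subgroup G) ⊓ centralizer ({u} : Set G) :=
      ⟨hu, mem_centralizer_singleton_iff.2 rfl⟩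
    rcases (hUmem x).1 hx with rfl | rfl | rfl | rfl
    exacts [one_mem _, hz', hu', mul_mem hz' hu']
  have h4 : 4 ≤ Nat.card ↥((L.T : Subgroup G) ⊓ centralizer ({u} : Set G)) :=
    hU.1 ▸ card_le_of_le hle
  have hd : Nat.card ↥((L.T : Subgroup G) ⊓ centralizer ({u} : Set G)) ∣ 8 :=
    L.card_T ▸ card_dvd_of_le inf_le_left
  have h8 : Nat.card ↥((L.T : Subgroup G) ⊓ centralizer ({u} : Set G)) ≠ 8 := fun h8 => by
    have e : (L.T : Subgroup G) ⊓ centralizer ({u} : Set G) = (L.T : Subgroup G) :=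
      eq_of_le_of_card_ge inf_le_left (by rw [h8, L.card_T])
    refine hσ ?_
    rw [mem_centralizer_singleton_iff.1 (e.ge L.σ_mem).2, mul_inv_cancel_right]
  have := Nat.le_of_dvd (by norm_num) hd
  interval_cases hN : Nat.card ↥((L.T : Subgroup G) ⊓ centralizer ({u} : Set G)) <;> omega

/-- The odd part of a two-point stabiliser. -/
theorem BHyp.exists_K {q r : Ω} (hqr : q ≠ r)
    (hz : L.z ∈ stabilizer G q ⊓ stabilizer G r) (hv : L.v ∈ stabilizer G q ⊓ stabilizer G r)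
    (hfa : ∀ n ∈ stabilizer G q ⊓ stabilizer G r,
      (∀ u, (u = L.z ∨ u = L.v ∨ u = L.z * L.v) → n * u * n⁻¹ = L.z ∨ n * u * n⁻¹ = L.v ∨
        n * u * n⁻¹ = L.z * L.v) → n • L.a = L.a) :
    ∃ K : Subgroup G, IsOddPart K (stabilizer G q ⊓ stabilizer G r) ∧
      Nat.card ↥(stabilizer G q ⊓ stabilizer G r) = 4 * Nat.card K := by
  obtain ⟨K, h1, h2, h3, h4⟩ := exists_odd_core (L.eight_not_dvd hqr) hz hv L.orderOf_z L.orderOf_v
    L.z_ne_v L.zv (fun n hn hz' hall => h.fuse (hfa n hn hall) hz')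
  exact ⟨K, ⟨h1, h2, h4⟩, h3⟩

/-- The centraliser in `K` of an involution fixing the two points is as large as `O`. -/
theorem BHyp.card_K_cent {q r : Ω} {K : Subgroup G}
    (hK : IsOddPart K (stabilizer G q ⊓ stabilizer G r)) {O : Subgroup G}
    (hO : IsOddPart O (centralizer ({L.z} : Set G))) {u : G} (hu : orderOf u = 2)
    (hq : u • q = q) (hr : u • r = r) :
    Nat.card ↥(K ⊓ centralizer ({u} : Set G)) = Nat.card O := by
  obtain ⟨g, hg⟩ := isConj_iff.1 (h.I.isConj L.z u L.orderOf_z hu)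
  have e : K ⊓ centralizer ({u} : Set G) = O.map (MulAut.conj g).toMonoidHom := by
    ext x
    rw [mem_inf, mem_map_equiv, MulAut.conj_symm_apply, hK.2.2, hO.2.2,
      mem_centralizer_singleton_iff, mem_centralizer_singleton_iff]
    have ho : orderOf (g⁻¹ * x * g) = orderOf x := by
      have := orderOf_conj' g⁻¹ x
      rwa [inv_inv] at this
    have hiff : g⁻¹ * x * g * L.z = L.z * (g⁻¹ * x * g) ↔ x * u = u * x := by
      rw [← hg]
      constructor <;> intro e
      · calc x * (g * L.z * g⁻¹) = g * (g⁻¹ * x * g * L.z) * g⁻¹ := by group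
          _ = g * L.z * g⁻¹ * x := by rw [e]; group
      · calc g⁻¹ * x * g * L.z = g⁻¹ * (x * (g * L.z * g⁻¹)) * g := by group
          _ = L.z * (g⁻¹ * x * g) := by rw [e]; group
    rw [ho, hiff]
    refine ⟨fun H => ⟨H.2, H.1.2⟩, fun H => ⟨⟨⟨?_, ?_⟩, H.2⟩, H.1⟩⟩
    · exact h.odd_fix hu H.2 (mem_centralizer_singleton_iff.2 H.1) hq
    · exact h.odd_fix hu H.2 (mem_centralizer_singleton_iff.2 H.1) hr
  rw [e, card_map_of_injective (MulEquiv.injective _)]

theorem BHyp.K_inf_z {q r : Ω} {K : Subgroup G}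
    (hK : IsOddPart K (stabilizer G q ⊓ stabilizer G r)) {O : Subgroup G}
    (hO : IsOddPart O (centralizer ({L.z} : Set G))) (hq : L.z • q = q) (hr : L.z • r = r)
    (S : Subgroup G) (hS : S ≤ centralizer ({L.z} : Set G)) : K ⊓ S = O ⊓ S := by
  ext x
  simp only [mem_inf, hK.2.2, hO.2.2]
  exact ⟨fun H => ⟨⟨hS H.2, H.1.2⟩, H.2⟩, fun H => ⟨⟨⟨h.O_fix hO ((hO.2.2 x).2 H.1) hq,
    h.O_fix hO ((hO.2.2 x).2 H.1) hr⟩, H.1.2⟩, H.2⟩⟩

omit h

theorem cent_pair (z u : G) :
    centralizer ({z, u} : Set G) = centralizer ({z} : Set G) ⊓ centralizer ({u} : Set G) := by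
  ext x
  rw [mem_inf, mem_centralizer_singleton_iff, mem_centralizer_singleton_iff, mem_centralizer_iff]
  refine ⟨fun H => ⟨(H z (Or.inl rfl)).symm, (H u (Or.inr rfl)).symm⟩, fun H y hy => ?_⟩
  rcases hy with rfl | rfl
  exacts [H.1.symm, H.2.symm]

include h

theorem BHyp.card_cent_pair {O : Subgroup G} (hO : IsOddPart O (centralizer ({L.z} : Set G)))
    (hcard : Nat.card (centralizer ({L.z} : Set G)) = 8 * Nat.card O) {u : G}
    (hu : u ∈ (L.T : Subgroup G))
    (h4 : Nat.card ↥((L.T : Subgroup G) ⊓ centralizer ({u} : Set G)) = 4) :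
    Nat.card (centralizer ({L.z, u} : Set G)) =
      4 * Nat.card ↥(O ⊓ centralizer ({u} : Set G)) := by
  rw [cent_pair, cent_card (fun t ht => L.T_comm_z ht) hO.1
    (fun x hx y hy => hO.conj_mem (fun m hm => mul_mem (mul_mem hx hm) (inv_mem hx)) hy) ?_ ?_ hu, h4]
  · rw [L.card_T, show (8 : ℕ) = 2 ^ 3 by norm_num]
    exact Nat.Coprime.pow_left 3 (Nat.coprime_two_left.2 hO.2.1)
  · rw [hcard, L.card_T]

/-- The character of degree `2p - 1` is one at the elements of even order. -/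
theorem BHyp.X_even {g : G} (hg : 2 ∣ orderOf g) : (C.X : G → ℂ) g = 1 := by
  have hp := h.S.five_le
  have hreg : ¬ p ∣ orderOf g := fun hp' => by
    rw [h.S.orderOf_singular hp'] at hg
    exact (Nat.not_even_iff_odd.2 h.S.p_odd) (even_iff_two_dvd.2 hg)
  obtain ⟨ψ, hψ⟩ : C.Y.Nonempty := Finset.card_pos.1 (by rw [C.card_Y]; omega)
  have h1 : (ψ : G → ℂ) 1 = ((2 * p - 2 : ℕ) : ℂ) := by
    rw [C.Y_regular ψ hψ 1 (by rw [orderOf_one]; exact h.S.prime.not_dvd_one), C.deg_X, h.hf,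
      Nat.cast_sub (by omega), Nat.cast_sub (by omega)]
    push_cast; ring
  have hd8 : 2 ^ 3 ∣ 2 * p - 2 := by
    have := L.one_mod_four
    norm_num; omega
  have hv := Char.irr_defect_zero_vanish' (ψ.2) Nat.prime_two (n := 3) L.card_not_dvd h1 hd8 g hg
  rw [C.Y_regular ψ hψ g hreg, sub_eq_zero] at hv
  exact hv

/-- The relation between the two fixed-point orders from the order formula for dihedral Sylow
subgroups. -/
theorem BHyp.formula_eq {O : Subgroup G} (hO : IsOddPart O (centralizer ({L.z} : Set G)))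
    (hcard : Nat.card (centralizer ({L.z} : Set G)) = 8 * Nat.card O) {d : ℕ} (hd : p = 4 * d + 1) :
    4 * d * Nat.card ↥(O ⊓ centralizer ({L.v} : Set G)) ^ 2 *
        Nat.card ↥(O ⊓ centralizer ({L.w} : Set G)) ^ 2 =
      Nat.card O * (Nat.card ↥(O ⊓ centralizer ({L.v} : Set G)) +
        Nat.card ↥(O ⊓ centralizer ({L.w} : Set G))) ^ 2 := by
  obtain ⟨M, hM⟩ := BlkChar.exists_isPModular 2 Nat.prime_two
  have hv1 : L.v ≠ 1 := fun e => by
    have := L.orderOf_v; rw [e, orderOf_one] at this; omega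
  have cv := h.card_cent_pair hO hcard L.v_mem (h.card_T_centralizer L.v_mem L.z_ne_v L.v_sq hv1
    (fun e => by
      rw [L.σ_conj_v, mul_eq_right] at e
      have := L.orderOf_z
      rw [e, orderOf_one] at this
      omega))
  have cw := h.card_cent_pair hO hcard L.w_mem (h.card_T_centralizer L.w_mem L.z_ne_w L.w_sq
    L.w_ne_one (fun e => by
      have e2 : L.σ * L.v * L.σ⁻¹ = L.v := by
        have := congrArg (L.σ⁻¹ * ·) e
        simp only [Local.w] at this ⊢
        calc L.σ * L.v * L.σ⁻¹ = L.σ⁻¹ * (L.σ * (L.σ * L.v) * L.σ⁻¹) := by group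
          _ = L.σ⁻¹ * (L.σ * L.v) := this
          _ = L.v := by group
      rw [L.σ_conj_v, mul_eq_right] at e2
      have := L.orderOf_z
      rw [e2, orderOf_one] at this
      omega))
  have hX : C.X ∈ principalBlock M G :=
    (S4483.result M hM).1 C.X (fun g => (h.hreal g).1) h.odd_X
  have hval : ∀ l : ℕ, 0 < l → l < 2 ^ (3 - 1) → (C.X : G → ℂ) (L.σ ^ l) = ((1 : ℤ) : ℂ) := by
    intro l hl hl4
    norm_num at hl4 ⊢
    refine h.X_even ?_
    rw [orderOf_pow' L.σ hl.ne', L.orderOf_σ]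
    interval_cases l <;> norm_num
  have key := (S4482.result M hM 3 le_rfl L.T L.σ L.v L.σ_mem L.v_mem
    (by rw [L.orderOf_σ]; norm_num) L.orderOf_v L.rel L.gen ⟨?_, ?_⟩ C.X hX C.X_ne 1 (Or.inl rfl)
    hval).2
  · simp only [show 3 - 2 = 1 from rfl, pow_one] at key
    rw [← L.z_eq, show L.σ * L.v = L.w from rfl, cv, cw, hcard, h.degX] at key
    have hform := h.I.formula
    rw [← h.I.card_centralizer L.z L.orderOf_z, hcard] at hform
    subst hd
    rw [h.hf] at hform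
    generalize Nat.card O = o at key hform hcard ⊢
    generalize hw0 : Nat.card ↥(O ⊓ centralizer ({L.w} : Set G)) = ow at key ⊢
    generalize hv0 : Nat.card ↥(O ⊓ centralizer ({L.v} : Set G)) = ov at key ⊢
    have hov : 0 < ov := hv0 ▸ Nat.card_pos
    have how : 0 < ow := hw0 ▸ Nat.card_pos
    have e1 : 2 * (4 * d + 1) - 1 = 8 * d + 1 := by omega
    rw [e1] at key hform
    push_cast at key hform
    have hform' : (Nat.card G : ℚ) * ((8 * d + 1 - 1) ^ 2) =
        (4 * d + 1) * (8 * o) ^ 2 * (8 * d + 1) * (8 * d + 1 - 1) := by exact_mod_cast hform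
    rw [hform'] at key
    field_simp at key
    have hd0 : (d : ℚ) ≠ 0 := by
      have := h.S.five_le
      exact_mod_cast (show d ≠ 0 by omega)
    have : ((4 * d * ov ^ 2 * ow ^ 2 : ℕ) : ℚ) = ((o * (ov + ow) ^ 2 : ℕ) : ℚ) := by
      push_cast
      have h2 : (4 * d + 1 : ℚ) * o ^ 2 * (4 * d * ov ^ 2 * ow ^ 2 -
          o * (ov + ow) ^ 2) = 0 := by
        linear_combination key / 32
      rcases mul_eq_zero.1 h2 with e | e
      · exfalso
        rcases Nat.eq_zero_or_pos o with e' | e'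
        · have := hcard
          have : (0 : ℕ) < Nat.card (centralizer ({L.z} : Set G)) := Nat.card_pos
          omega
        · have : (0 : ℚ) < (4 * d + 1 : ℚ) * o ^ 2 := by positivity
          linarith
      · linarith
    exact_mod_cast this
  · rw [show 3 - 2 = 1 from rfl, pow_one, ← L.z_eq]
    exact h.I.isConj _ _ L.orderOf_z L.orderOf_v
  · rw [show 3 - 2 = 1 from rfl, pow_one, ← L.z_eq]
    exact h.I.isConj _ _ L.orderOf_z L.orderOf_w

/-- Transitivity on ordered pairs of colour `R`. -/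
theorem BHyp.pair_trans {q r : Ω} (hR : Q.R q r) {q' r' : Ω} (hR' : Q.R q' r') :
    ∃ g : G, g • q = q' ∧ g • r = r' := by
  have := h.S.prim
  obtain ⟨g, hg⟩ := MulAction.exists_smul_eq G q q'
  have hR2 : Q.R q' (g • r) := hg ▸ (Q.inv g q r).2 hR
  obtain ⟨k, hk, hk'⟩ := Q.trans_R q' (g • r) r' hR2 hR'
  exact ⟨k * g, by rw [mul_smul, hg, hk], by rw [mul_smul, hk']⟩

theorem BHyp.card_G {q r : Ω} (hR : Q.R q r) :
    Nat.card G = 3 * p * Nat.card {x : Ω // Q.R q x} *
      Nat.card ↥(stabilizer G q ⊓ stabilizer G r) := by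
  have := h.S.prim
  have h1 := (stabilizer G q).card_mul_index
  rw [MulAction.index_stabilizer_of_transitive, h.S.card_points] at h1
  let e : stabilizer G q → {x : Ω // Q.R q x} := fun g =>
    ⟨(g : G) • r, by
      have := (Q.inv (g : G) q r).2 hR
      rwa [show (g : G) • q = q from g.2] at this⟩
  have hsur : ∀ x : {x : Ω // Q.R q x}, ∃ g, e g = x := fun x => by
    obtain ⟨g, hg, hg'⟩ := Q.trans_R q r x hR x.2
    exact ⟨⟨g, hg⟩, Subtype.ext hg'⟩
  choose s hs using hsur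
  have hs' : ∀ x, ((s x : stabilizer G q) : G) • r = x.1 := fun x => congrArg Subtype.val (hs x)
  have h2 : Nat.card (stabilizer G q) =
      Nat.card {x : Ω // Q.R q x} * Nat.card ↥(stabilizer G q ⊓ stabilizer G r) := by
    rw [← Nat.card_prod]
    exact Nat.card_congr
      { toFun := fun g => (e g, ⟨((s (e g) : stabilizer G q) : G)⁻¹ * g,
          (stabilizer G q).mul_mem ((stabilizer G q).inv_mem (s (e g)).2) g.2, by
            show (_ * _) • r = r
            rw [mul_smul, inv_smul_eq_iff]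
            exact (hs' (e g)).symm⟩)
        invFun := fun q' => ⟨(s q'.1 : G) * q'.2, mul_mem (s q'.1).2 q'.2.2.1⟩
        left_inv := fun g => Subtype.ext (mul_inv_cancel_left _ _)
        right_inv := fun ⟨x, ⟨k, hk⟩⟩ => by
          have hx : e ⟨(s x : G) * k, mul_mem (s x).2 hk.1⟩ = x :=
            Subtype.ext (by
              show ((s x : G) * k) • r = x
              rw [mul_smul, show k • r = r from hk.2, hs'])
          simp only [Prod.mk.injEq, Subtype.mk.injEq]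
          have hs2 := congrArg (fun y => ((s y : stabilizer G q) : G)) hx
          exact ⟨hx, Subtype.ext (by show _⁻¹ * _ = k; rw [hs2]; exact inv_mul_cancel_left _ _)⟩ }
  rw [← h1, h2]; ring

/-- The conclusion of the counting: `|C_K(w)| d = o`. -/
theorem BHyp.edge_count {O K : Subgroup G} (hO : IsOddPart O (centralizer ({L.z} : Set G)))
    (hcard : Nat.card (centralizer ({L.z} : Set G)) = 8 * Nat.card O)
    (hK : IsOddPart K (stabilizer G L.b ⊓ stabilizer G L.b'))
    (hKcard : Nat.card ↥(stabilizer G L.b ⊓ stabilizer G L.b') = 4 * Nat.card K) {d : ℕ}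
    (hd : p = 4 * d + 1) :
    Nat.card ↥(K ⊓ centralizer ({L.w} : Set G)) * d = Nat.card O := by
  -- the setwise stabiliser of `b, b'`
  let E : Subgroup G :=
    { carrier := {g | (g • L.b = L.b ∧ g • L.b' = L.b') ∨ (g • L.b = L.b' ∧ g • L.b' = L.b)}
      one_mem' := Or.inl ⟨one_smul _ _, one_smul _ _⟩
      mul_mem' := by
        rintro x y (⟨hx, hx'⟩ | ⟨hx, hx'⟩) (⟨hy, hy'⟩ | ⟨hy, hy'⟩)
        · exact Or.inl ⟨by rw [mul_smul, hy, hx], by rw [mul_smul, hy', hx']⟩
        · exact Or.inr ⟨by rw [mul_smul, hy, hx'], by rw [mul_smul, hy', hx]⟩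
        · exact Or.inr ⟨by rw [mul_smul, hy, hx], by rw [mul_smul, hy', hx']⟩
        · exact Or.inl ⟨by rw [mul_smul, hy, hx'], by rw [mul_smul, hy', hx]⟩
      inv_mem' := by
        rintro x (⟨hx, hx'⟩ | ⟨hx, hx'⟩)
        · exact Or.inl ⟨inv_smul_eq_iff.2 hx.symm, inv_smul_eq_iff.2 hx'.symm⟩
        · exact Or.inr ⟨inv_smul_eq_iff.2 hx'.symm, inv_smul_eq_iff.2 hx.symm⟩ }
  have hwE : L.w ∈ E := Or.inr ⟨L.w_b, L.w_b'⟩
  have hσE : L.σ ∈ E := Or.inr ⟨L.σ_b, L.σ_b'⟩
  have hvE : L.v ∈ E := Or.inl ⟨L.v_b, L.v_b'⟩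
  have hTE : (L.T : Subgroup G) ≤ E := by
    rw [← L.gen, closure_le]
    rintro x (rfl | rfl)
    exacts [hσE, hvE]
  have hME : stabilizer G L.b ⊓ stabilizer G L.b' ≤ E := fun x hx => Or.inl ⟨hx.1, hx.2⟩
  have hEcard : Nat.card E = 8 * Nat.card K := by
    rw [show 8 * Nat.card K = 2 * (4 * Nat.card K) by ring, ← hKcard,
      ← show Nat.card Bool = 2 by simp, ← Nat.card_prod]
    refine Nat.card_congr
      { toFun := fun g => if hg : (g : G) • L.b = L.b then (true, ⟨g, ?_⟩)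
          else (false, ⟨L.w * g, ?_⟩)
        invFun := fun q => if q.1 then ⟨q.2, hME q.2.2⟩
          else ⟨L.w * q.2, mul_mem hwE (hME q.2.2)⟩
        left_inv := ?_
        right_inv := ?_ }
    · rcases g.2 with hh | hh
      · exact ⟨hh.1, hh.2⟩
      · exact absurd (hg.symm.trans hh.1) L.bb'
    · rcases g.2 with hh | hh
      · exact absurd hh.1 hg
      · exact ⟨by show (L.w * g.1) • L.b = L.b; rw [mul_smul, hh.1, L.w_b'],
          by show (L.w * g.1) • L.b' = L.b'; rw [mul_smul, hh.2, L.w_b]⟩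
    · intro g
      by_cases hg : (g : G) • L.b = L.b
      · simp [hg]
      · simp [hg, ← mul_assoc, L.w_sq]
    · rintro ⟨b, k, hk⟩
      cases b
      · have : (L.w * k) • L.b ≠ L.b := by
          rw [mul_smul, show k • L.b = L.b from hk.1, L.w_b]; exact L.bb'.symm
        simp [this, ← mul_assoc, L.w_sq]
      · simp [show k • L.b = L.b from hk.1]
  -- the involutions exchanging `b` and `b'`
  let Sw : G → Prop := fun t => orderOf t = 2 ∧ t • L.b = L.b'
  have hsw : ∀ t, Sw t ↔ ∃ m ∈ E, t = m * L.w * m⁻¹ := by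
    intro t
    constructor
    · rintro ⟨ht, htb⟩
      have htb' : t • L.b' = L.b := by
        rw [← htb, ← mul_smul, ← sq, ← ht, pow_orderOf_eq_one, one_smul]
      have : Fact (Nat.Prime 2) := ⟨Nat.prime_two⟩
      let TE : Sylow 2 E := L.T.subtype hTE
      have hp : IsPGroup 2 (zpowers (⟨t, Or.inr ⟨htb, htb'⟩⟩ : E)) := by
        refine IsPGroup.of_card (n := 1) ?_
        rw [Nat.card_zpowers, ← Subgroup.orderOf_coe, pow_one]
        exact ht
      obtain ⟨R, hR⟩ := hp.exists_le_sylow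
      obtain ⟨g, hg⟩ := MulAction.exists_smul_eq E R TE
      have hm : g * ⟨t, Or.inr ⟨htb, htb'⟩⟩ * g⁻¹ ∈ (TE : Subgroup E) := by
        rw [← hg, Sylow.coe_subgroup_smul]
        exact ⟨_, hR (mem_zpowers _), rfl⟩
      set u := (g : G) * t * (g : G)⁻¹ with hu
      have huT : u ∈ (L.T : Subgroup G) := hm
      have hu2 : orderOf u = 2 := by rw [hu, orderOf_conj', ht]
      have hub : u • L.b = L.b' := by
        rcases (inv_mem g.2 : (g : G)⁻¹ ∈ E) with ⟨e1, e1'⟩ | ⟨e1, e1'⟩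
        · rw [hu, mul_smul, mul_smul, e1, htb, ← inv_smul_eq_iff.1 e1']
        · rw [hu, mul_smul, mul_smul, e1, htb', ← inv_smul_eq_iff.1 e1']
      have hx := h.T_stab_b (mul_mem huT L.w_mem) (by rw [mul_smul, L.w_b]; exact (by
        rw [← hub, ← mul_smul, ← sq, ← hu2, pow_orderOf_eq_one, one_smul]))
      have huw : ∀ x, u * L.w = x → u = x * L.w := fun x e => by
        rw [← e, mul_assoc, L.w_sq, mul_one]
      have htu : t = (g : G)⁻¹ * u * (g : G)⁻¹⁻¹ := by rw [hu]; group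
      rcases hx with e | e | e | e
      · refine ⟨(g : G)⁻¹, inv_mem g.2, ?_⟩
        rw [htu, huw _ e, one_mul]
      · refine ⟨(g : G)⁻¹ * L.v, mul_mem (inv_mem g.2) hvE, ?_⟩
        rw [htu, huw _ e, ← L.v_conj_w]; group
      · exfalso
        rw [huw _ e, L.vw, orderOf_inv, L.orderOf_σ] at hu2
        omega
      · exfalso
        rw [huw _ e, mul_assoc, L.vw, L.z_eq, pow_two, mul_inv_cancel_right, L.orderOf_σ] at hu2
        omega
    · rintro ⟨m, hm, rfl⟩
      refine ⟨by rw [orderOf_conj', L.orderOf_w], ?_⟩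
      rcases (inv_mem hm : m⁻¹ ∈ E) with ⟨e1, e1'⟩ | ⟨e1, e1'⟩
      · rw [mul_smul, mul_smul, e1, L.w_b, ← inv_smul_eq_iff.1 e1']
      · rw [mul_smul, mul_smul, e1, L.w_b', ← inv_smul_eq_iff.1 e1']
  have hS := card_conj_set Sw hsw
  have hKn : ∀ x ∈ E, ∀ y ∈ K, x * y * x⁻¹ ∈ K := fun x hx y hy => by
    refine hK.conj_mem (fun m hm => ?_) hy
    rcases (inv_mem hx : x⁻¹ ∈ E) with ⟨e1, e1'⟩ | ⟨e1, e1'⟩
    · exact ⟨by show (x * m * x⁻¹) • L.b = L.b
                rw [mul_smul, mul_smul, e1, show m • L.b = L.b from hm.1, ← inv_smul_eq_iff.1 e1],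
        by show (x * m * x⁻¹) • L.b' = L.b'
           rw [mul_smul, mul_smul, e1', show m • L.b' = L.b' from hm.2, ← inv_smul_eq_iff.1 e1']⟩
    · exact ⟨by show (x * m * x⁻¹) • L.b = L.b
                rw [mul_smul, mul_smul, e1, show m • L.b' = L.b' from hm.2, ← inv_smul_eq_iff.1 e1],
        by show (x * m * x⁻¹) • L.b' = L.b'
           rw [mul_smul, mul_smul, e1', show m • L.b = L.b from hm.1, ← inv_smul_eq_iff.1 e1']⟩
  have hcw := cent_card hTE (hK.1.trans hME) hKn (by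
      rw [L.card_T, show (8 : ℕ) = 2 ^ 3 by norm_num]
      exact Nat.Coprime.pow_left 3 (Nat.coprime_two_left.2 hK.2.1))
    (by rw [L.card_T, hEcard]) L.w_mem
  rw [h.card_T_centralizer L.w_mem L.z_ne_w L.w_sq L.w_ne_one (fun e => by
    have e2 : L.σ * L.v * L.σ⁻¹ = L.v := by
      simp only [Local.w] at e
      calc L.σ * L.v * L.σ⁻¹ = L.σ⁻¹ * (L.σ * (L.σ * L.v) * L.σ⁻¹) := by group
        _ = L.σ⁻¹ * (L.σ * L.v) := by rw [e]
        _ = L.v := by group
    rw [L.σ_conj_v, mul_eq_right] at e2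
    have := L.orderOf_z
    rw [e2, orderOf_one] at this
    omega)] at hcw
  rw [hcw, hEcard] at hS
  -- count the pairs `(t, q)` with `{q, t q}` of colour `R`
  have hinv : Nat.card {t : G // orderOf t = 2} * (8 * Nat.card O) = Nat.card G := by
    have := card_conj_set (M := (⊤ : Subgroup G)) (w := L.z) (fun t => orderOf t = 2) fun t => by
      refine ⟨fun ht => ?_, ?_⟩
      · obtain ⟨g, hg⟩ := isConj_iff.1 (h.I.isConj L.z t L.orderOf_z ht)
        exact ⟨g, mem_top _, hg.symm⟩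
      · rintro ⟨g, -, rfl⟩
        rw [orderOf_conj', L.orderOf_z]
    rwa [top_inf_eq, hcard, Subgroup.card_top] at this
  have hA : Nat.card (Σ t : {t : G // orderOf t = 2}, {q : Ω // Q.R q (t.1 • q)}) =
      Nat.card {t : G // orderOf t = 2} * (p - 1) := by
    rw [Nat.card_sigma, Finset.sum_congr rfl fun t _ => Q.swap L.one_mod_four t.1 t.2,
      Finset.sum_const, smul_eq_mul, Finset.card_univ, ← Nat.card_eq_fintype_card]
  obtain ⟨k, hk⟩ : ∃ k, k = Nat.card {x : Ω // Q.R L.b x} := ⟨_, rfl⟩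
  have hdeg : ∀ q : Ω, Nat.card {x : Ω // Q.R q x} = k := fun q => by
    have h1 := Q.deg_R q
    have h2 := Q.deg_R L.b
    rw [← hk] at h2
    exact_mod_cast h1.trans h2.symm
  have hB : Nat.card (Σ qr : (Σ q : Ω, {x : Ω // Q.R q x}),
        {t : G // orderOf t = 2 ∧ t • qr.1 = qr.2.1}) =
      3 * p * k * Nat.card {t // Sw t} := by
    rw [Nat.card_sigma, Finset.sum_congr rfl fun qr _ => ?_, Finset.sum_const, smul_eq_mul,
      Finset.card_univ, ← Nat.card_eq_fintype_card, Nat.card_sigma,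
      Finset.sum_congr rfl fun q _ => hdeg q, Finset.sum_const, smul_eq_mul, Finset.card_univ,
      ← Nat.card_eq_fintype_card, h.S.card_points]
    obtain ⟨g, hg1, hg2⟩ := h.pair_trans qr.2.2 L.R_bb'
    refine Nat.card_congr
      { toFun := fun t => ⟨g * t.1 * g⁻¹, by rw [orderOf_conj']; exact t.2.1, by
          rw [mul_smul, mul_smul, inv_smul_eq_iff.2 hg1.symm, t.2.2, hg2]⟩
        invFun := fun t => ⟨g⁻¹ * t.1 * g, by
          have := orderOf_conj' g⁻¹ t.1
          rw [inv_inv] at this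
          rw [this]; exact t.2.1, by
          rw [mul_smul, mul_smul, hg1, t.2.2, inv_smul_eq_iff, hg2]⟩
        left_inv := fun t => Subtype.ext (by group)
        right_inv := fun t => Subtype.ext (by group) }
  have hAB : Nat.card (Σ t : {t : G // orderOf t = 2}, {q : Ω // Q.R q (t.1 • q)}) =
      Nat.card (Σ qr : (Σ q : Ω, {x : Ω // Q.R q x}),
        {t : G // orderOf t = 2 ∧ t • qr.1 = qr.2.1}) :=
    Nat.card_congr
      { toFun := fun a => ⟨⟨a.2.1, a.1.1 • a.2.1, a.2.2⟩, a.1.1, a.1.2, rfl⟩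
        invFun := fun b => ⟨⟨b.2.1, b.2.2.1⟩, b.1.1, b.2.2.2.symm ▸ b.1.2.2⟩
        left_inv := fun _ => rfl
        right_inv := by
          rintro ⟨⟨q, x, hx⟩, t, ht, ht'⟩
          obtain rfl : t • q = x := ht'
          rfl }
  rw [hA, hB, show p - 1 = 4 * d by omega] at hAB
  have hG := h.card_G L.R_bb'
  rw [← hk, hKcard] at hG
  have hkpos : 0 < k := hk ▸ Nat.card_pos_iff.2 ⟨⟨⟨L.b', L.R_bb'⟩⟩, inferInstance⟩
  generalize Nat.card {t : G // orderOf t = 2} = ni at hinv hAB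
  generalize Nat.card {t // Sw t} = s at hS hAB
  generalize Nat.card ↥(K ⊓ centralizer ({L.w} : Set G)) = κ at hS ⊢
  have e : 3 * p * k * (2 * Nat.card K) * (κ * d) = 3 * p * k * (2 * Nat.card K) * Nat.card O := by
    have e1 : 8 * Nat.card O * (3 * p * k * s) * κ = Nat.card G * (4 * d) * κ := by
      rw [← hAB, ← hinv]; ring
    rw [hG] at e1
    have e2 : s * κ = 2 * Nat.card K := by linarith
    calc 3 * p * k * (2 * Nat.card K) * (κ * d)
        = 3 * p * k * (4 * Nat.card K) * (4 * d) * κ / 8 := by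
          rw [show 3 * p * k * (4 * Nat.card K) * (4 * d) * κ =
            8 * (3 * p * k * (2 * Nat.card K) * (κ * d)) by ring, Nat.mul_div_cancel_left _ (by norm_num)]
      _ = 8 * Nat.card O * (3 * p * k * s) * κ / 8 := by rw [e1]
      _ = _ := by
        rw [show 8 * Nat.card O * (3 * p * k * s) * κ =
          8 * (3 * p * k * (s * κ) * Nat.card O) by ring, e2, Nat.mul_div_cancel_left _ (by norm_num)]
  refine Nat.eq_of_mul_eq_mul_left ?_ e
  have := h.S.p_pos
  have : 0 < Nat.card K := Nat.card_pos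
  positivity

omit h

/-- The arithmetic of the last step. -/
theorem final_arith {s o ov ow K K' d : ℕ} {p : ℕ} {S : ℤ} (hd : p = 4 * d + 1) (hd0 : 0 < d)
    (h2p : 2 * (p : ℤ) = 6 * S ^ 2 + 3 * S + 1) (hs : (s : ℤ) = p + S)
    (ho : 0 < o) (hov : 0 < ov) (how : 0 < ow) (hK0 : 0 < K)
    (hG : 3 * p * s * (4 * K) * (8 * d) = p * (8 * o) ^ 2 * (8 * d + 1)) (hKK : K' = K)
    (h7 : 4 * d * ov ^ 2 * ow ^ 2 = o * (ov + ow) ^ 2) (h8 : K * ov ^ 2 = o ^ 3)
    (h9 : K' * ow ^ 2 * d ^ 2 = o ^ 3) : p = 5 ∧ o = ow ^ 2 := by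
  subst hKK
  have hvw : ov = d * ow := by
    have e : K' * ov ^ 2 = K' * (d * ow) ^ 2 := by rw [h8, ← h9]; ring
    exact Nat.pow_left_injective two_ne_zero (Nat.eq_of_mul_eq_mul_left hK0 e)
  subst hvw
  have h7' : 4 * (d : ℤ) ^ 3 * (ow : ℤ) ^ 2 = o * ((d : ℤ) + 1) ^ 2 := by
    have e : ((ow : ℤ) ^ 2) * (4 * (d : ℤ) ^ 3 * (ow : ℤ) ^ 2) =
        (ow : ℤ) ^ 2 * (o * ((d : ℤ) + 1) ^ 2) := by
      have := congrArg (Nat.cast : ℕ → ℤ) h7
      push_cast at this
      linear_combination this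
    exact mul_left_cancel₀ (pow_ne_zero 2 (by exact_mod_cast how.ne')) e
  have e2p : 8 * (d : ℤ) = 6 * S ^ 2 + 3 * S - 1 := by
    subst hd; push_cast at h2p; linarith
  have h8' : 4 * S * d * (ow : ℤ) ^ 2 = o * (3 * S + 1) := by
    have hG' := congrArg (Nat.cast : ℕ → ℤ) hG
    have hK' := congrArg (Nat.cast : ℕ → ℤ) h8
    push_cast at hG' hK'
    have a1 : 8 * (d : ℤ) + 1 = 3 * S * (2 * S + 1) := by linear_combination e2p
    have a2 : 2 * (s : ℤ) = (3 * S + 1) * (2 * S + 1) := by linear_combination 2 * hs + h2p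
    have eK : (p : ℤ) * (2 * S + 1) * 48 * ((K' : ℤ) * d * (3 * S + 1)) =
        (p : ℤ) * (2 * S + 1) * 48 * (4 * (o : ℤ) ^ 2 * S) := by
      linear_combination hG' - 48 * (p : ℤ) * K' * d * a2 + 64 * (p : ℤ) * (o : ℤ) ^ 2 * a1
    have hpz : (p : ℤ) ≠ 0 := by omega
    have eK' := mul_left_cancel₀ (mul_ne_zero (mul_ne_zero hpz (by omega)) (by norm_num)) eK
    have e : (o : ℤ) ^ 2 * d * (4 * S * d * (ow : ℤ) ^ 2) =
        (o : ℤ) ^ 2 * d * (o * (3 * S + 1)) := by
      linear_combination -((d : ℤ) * ow) ^ 2 * eK' + (d : ℤ) * (3 * S + 1) * hK'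
    exact mul_left_cancel₀ (mul_ne_zero (pow_ne_zero 2 (by omega)) (by omega)) e
  have key : S * ((d : ℤ) + 1) ^ 2 = (d : ℤ) ^ 2 * (3 * S + 1) := by
    have e : (o : ℤ) * (S * ((d : ℤ) + 1) ^ 2) = o * ((d : ℤ) ^ 2 * (3 * S + 1)) := by
      linear_combination -S * h7' + (d : ℤ) ^ 2 * h8'
    exact mul_left_cancel₀ (by exact_mod_cast ho.ne') e
  have hcop : IsCoprime S ((d : ℤ) ^ 2 * (3 * S + 1)) := by
    refine IsCoprime.mul_right (IsCoprime.pow_right ?_) ⟨-3, 1, by ring⟩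
    exact ⟨6 * S + 3, -8, by linear_combination -e2p⟩
  have hunit : IsUnit S := hcop.isUnit_of_dvd' dvd_rfl (key ▸ dvd_mul_right _ _)
  rcases Int.isUnit_iff.1 hunit with rfl | rfl
  · have hd1 : d = 1 := by omega
    subst hd1
    refine ⟨by omega, ?_⟩
    push_cast at h8'
    exact_mod_cast (by linarith : (o : ℤ) = (ow : ℤ) ^ 2)
  · exfalso; omega

/-- The order of the group in the case `f = 2p - 1`. -/
theorem order_formula {G : Type u} [Group G] [Fintype G] {Ω : Type v} [Fintype Ω] [MulAction G Ω]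
    {p : ℕ} (S : Setup G Ω p) {f : ℕ} (hf : f = 2 * p - 1) (C : Chars G p f) (θ : IrrCharacter G)
    (hθ1 : (θ : G → ℂ) 1 = p)
    (hπ : ∀ g, (fix Ω g : ℂ) = 1 + (C.X : G → ℂ) g + (θ : G → ℂ) g) {c : ℕ} (I : Invol C 1 c)
    (hθt : ∀ t, orderOf t = 2 → (θ : G → ℂ) t = 1)
    (hreal : ∀ g, ((C.X : G → ℂ) g).im = 0 ∧ ((θ : G → ℂ) g).im = 0) (Q : Param G Ω p)
    (L : Local G Ω p Q) : p = 5 ∧ ∃ o : ℕ, Nat.card G = 360 * o ^ 4 := by
  have h : BHyp C θ Q L c := ⟨S, hf, hθ1, hπ, I, hθt, hreal⟩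
  obtain ⟨d, hd⟩ : ∃ d, p = 4 * d + 1 := ⟨p / 4, by have := L.one_mod_four; omega⟩
  have hd0 : 0 < d := by have := S.five_le; omega
  obtain ⟨O, hO, hcard⟩ := h.exists_O
  have hzab : L.z ∈ stabilizer G L.a ⊓ stabilizer G L.b := ⟨L.z_a, L.z_b⟩
  have hvab : L.v ∈ stabilizer G L.a ⊓ stabilizer G L.b := ⟨L.v_a, L.v_b⟩
  obtain ⟨K, hK, hKcard⟩ := h.exists_K L.ab hzab hvab fun n hn _ => hn.1
  obtain ⟨K', hK', hKcard'⟩ := h.exists_K L.bb' (q := L.b) (r := L.b') ⟨L.z_b, L.z_b'⟩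
    ⟨L.v_b, L.v_b'⟩ fun n hn hall => by
      -- `n` permutes the fixed points of `z`, fixing two of the three
      have hfix : ∀ u, (u = L.z ∨ u = L.v ∨ u = L.z * L.v) → u • L.a = L.a := by
        rintro u (rfl | rfl | rfl)
        exacts [L.z_a, L.v_a, by rw [mul_smul, L.v_a, L.z_a]]
      have hu : ∀ u, (u = L.z ∨ u = L.v ∨ u = L.z * L.v) → ∀ q, u • q = q →
          q = L.a ∨ q = L.b ∨ q = L.b' := by
        intro u hu q hq
        have h2 : orderOf u = 2 := by
          rcases hu with rfl | rfl | rfl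
          exacts [L.orderOf_z, L.orderOf_v, L.orderOf_zv]
        have hsub : fixedBy Ω L.z ⊆ fixedBy Ω u := fun r hr => by
          show u • r = r
          rcases hu with rfl | rfl | rfl
          exacts [hr, (L.fix_v r).2 ((L.fix_z r).1 hr),
            by rw [mul_smul, (L.fix_v r).2 ((L.fix_z r).1 hr)]; exact hr]
        have heq : fixedBy Ω L.z = fixedBy Ω u := by
          refine Set.eq_of_subset_of_ncard_le hsub ?_ (Set.toFinite _)
          rw [← Nat.card_coe_set_eq, ← Nat.card_coe_set_eq]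
          exact le_of_eq ((h.fix_invol h2).trans (h.fix_invol L.orderOf_z).symm)
        exact (L.fix_z q).1 (heq.ge (show q ∈ fixedBy Ω u from hq))
      have hza := hall L.z (Or.inl rfl)
      have h3 : (n * L.z * n⁻¹) • (n • L.a) = n • L.a := by
        rw [mul_smul, mul_smul, inv_smul_smul, L.z_a]
      rcases hu _ hza _ h3 with e | e | e
      · exact e
      · exact absurd (smul_left_cancel n (e.trans hn.1.symm)) L.ab
      · exact absurd (smul_left_cancel n (e.trans hn.2.symm)) L.ab'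
  have hKK : Nat.card K' = Nat.card K := by
    have h1 := h.card_G L.R_ab
    have h2 := h.card_G L.R_bb'
    have hdeg : Nat.card {x : Ω // Q.R L.a x} = Nat.card {x : Ω // Q.R L.b x} := by
      exact_mod_cast (Q.deg_R L.a).trans (Q.deg_R L.b).symm
    rw [hKcard, hdeg] at h1
    rw [hKcard', h1] at h2
    have hpos : 0 < Nat.card {x : Ω // Q.R L.b x} :=
      Nat.card_pos_iff.2 ⟨⟨⟨L.b', L.R_bb'⟩⟩, inferInstance⟩
    have := S.p_pos
    have := Nat.eq_of_mul_eq_mul_left (by positivity) h2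
    omega
  -- the four-group fixing the three points
  have hzn : ∀ {M : Subgroup G}, L.z ∈ M → ∀ {R : Subgroup G}, IsOddPart R M →
      ∀ x ∈ R, L.z * x * L.z⁻¹ ∈ R := fun hm _ hR x hx =>
    hR.conj_mem (fun y hy => mul_mem (mul_mem hm hy) (inv_mem hm)) hx
  have four1 := four_fixed_subgroup hK.2.1 L.z_sq L.v_sq L.zv (hzn hzab hK) (fun x hx =>
    hK.conj_mem (fun y hy => mul_mem (mul_mem hvab hy) (inv_mem hvab)) hx)
  have hz2le : ∀ u, centralizer ({L.z, u} : Set G) ≤ centralizer ({L.z} : Set G) := fun u => by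
    rw [cent_pair]; exact inf_le_left
  have hpair : ∀ u, O ⊓ centralizer ({L.z, u} : Set G) = O ⊓ centralizer ({u} : Set G) := fun u => by
    rw [cent_pair, ← inf_assoc, inf_eq_left.2 hO.1]
  rw [h.K_inf_z hK hO L.z_a L.z_b _ (hz2le _), hpair, h.card_K_cent hK hO L.orderOf_z L.z_a L.z_b,
    h.card_K_cent hK hO L.orderOf_v L.v_a L.v_b,
    h.card_K_cent hK hO L.orderOf_zv (by rw [mul_smul, L.v_a, L.z_a])
      (by rw [mul_smul, L.v_b, L.z_b])] at four1
  -- the four-group fixing only `a`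
  have hwconj : ∀ y ∈ stabilizer G L.b ⊓ stabilizer G L.b',
      L.w * y * L.w⁻¹ ∈ stabilizer G L.b ⊓ stabilizer G L.b' := fun y hy => by
    have e : L.w⁻¹ = L.w := inv_eq_of_mul_eq_one_right L.w_sq
    rw [e]
    exact ⟨by show (L.w * y * L.w) • L.b = L.b
              rw [mul_smul, mul_smul, L.w_b, show y • L.b' = L.b' from hy.2, L.w_b'],
      by show (L.w * y * L.w) • L.b' = L.b'
         rw [mul_smul, mul_smul, L.w_b', show y • L.b = L.b from hy.1, L.w_b]⟩
  have four2 := four_fixed_subgroup hK'.2.1 L.z_sq L.w_sq L.zw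
    (hzn (show L.z ∈ stabilizer G L.b ⊓ stabilizer G L.b' from ⟨L.z_b, L.z_b'⟩) hK')
    (fun x hx => hK'.conj_mem hwconj hx)
  have hzw : Nat.card ↥(K' ⊓ centralizer ({L.z * L.w} : Set G)) =
      Nat.card ↥(K' ⊓ centralizer ({L.w} : Set G)) := by
    have e : K' ⊓ centralizer ({L.z * L.w} : Set G) =
        (K' ⊓ centralizer ({L.w} : Set G)).map (MulAut.conj L.v).toMonoidHom := by
      ext x
      rw [mem_map_equiv, MulAut.conj_symm_apply, mem_inf, mem_inf, mem_centralizer_singleton_iff,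
        mem_centralizer_singleton_iff]
      have hvM : L.v ∈ stabilizer G L.b ⊓ stabilizer G L.b' := ⟨L.v_b, L.v_b'⟩
      have key : x * (L.z * L.w) = L.z * L.w * x ↔
          L.v⁻¹ * x * L.v * L.w = L.w * (L.v⁻¹ * x * L.v) := by
        rw [← L.v_conj_w]
        constructor <;> intro e
        · calc L.v⁻¹ * x * L.v * L.w = L.v⁻¹ * (x * (L.v * L.w * L.v⁻¹)) * L.v := by group
            _ = L.w * (L.v⁻¹ * x * L.v) := by rw [e]; group
        · calc x * (L.v * L.w * L.v⁻¹) = L.v * (L.v⁻¹ * x * L.v * L.w) * L.v⁻¹ := by group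
            _ = L.v * L.w * L.v⁻¹ * x := by rw [e]; group
      have hcl : ∀ {n : G}, n ∈ stabilizer G L.b ⊓ stabilizer G L.b' →
          ∀ y ∈ K', n * y * n⁻¹ ∈ K' := fun {n} hn y hy =>
        hK'.conj_mem (fun m hm => mul_mem (mul_mem hn hm) (inv_mem hn)) hy
      refine ⟨fun H => ⟨?_, key.1 H.2⟩, fun H => ⟨?_, key.2 H.2⟩⟩
      · simpa using hcl (inv_mem hvM) x H.1
      · have := hcl hvM _ H.1
        rwa [show L.v * (L.v⁻¹ * x * L.v) * L.v⁻¹ = x by group] at this
    rw [e, card_map_of_injective (MulEquiv.injective _)]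
  rw [h.K_inf_z hK' hO L.z_b L.z_b' _ (hz2le _), hpair,
    h.card_K_cent hK' hO L.orderOf_z L.z_b L.z_b', hzw] at four2
  have hedge := h.edge_count hO hcard hK' hKcard' hd
  have h7 := h.formula_eq hO hcard hd
  have hG := h.card_G L.R_ab
  rw [hKcard] at hG
  have hform := I.formula
  rw [← I.card_centralizer L.z L.orderOf_z, hcard, hf, hd,
    show 2 * (4 * d + 1) - 1 = 8 * d + 1 by omega] at hform
  push_cast at hform
  have hform' : Nat.card G * (8 * d) = p * (8 * Nat.card O) ^ 2 * (8 * d + 1) := by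
    have e : (Nat.card G : ℤ) * (8 * d) * (8 * d) =
        ((p : ℤ) * (8 * Nat.card O) ^ 2 * (8 * d + 1)) * (8 * d) := by
      rw [hd]; push_cast; linear_combination hform
    exact_mod_cast mul_right_cancel₀ (by exact_mod_cast (show 8 * d ≠ 0 by omega)) e
  have hdeg := Q.deg_R L.a
  obtain ⟨hp5, how⟩ := final_arith (K' := Nat.card K') (K := Nat.card K) hd hd0 Q.two_p hdeg
    Nat.card_pos Nat.card_pos Nat.card_pos Nat.card_pos (hG ▸ hform') hKK h7
    (by rw [four1]; ring)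
    (by rw [four2, ← hedge]; ring)
  refine ⟨hp5, Nat.card ↥(O ⊓ centralizer ({L.w} : Set G)), ?_⟩
  have hd1 : d = 1 := by omega
  subst hd1
  rw [hd] at hform'
  rw [how] at hform'
  generalize Nat.card ↥(O ⊓ centralizer ({L.w} : Set G)) = ow at hform' ⊢
  linarith [hform', show ((4 * 1 + 1) * (8 * ow ^ 2) ^ 2 * (8 * 1 + 1) : ℕ) = 8 * (360 * ow ^ 4) by
    ring]

end Cfsg.Agent.DegThreeP
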