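import Cfsg.Agent.GW.CycMain
import Mathlib.GroupTheory.Transfer

/-!
# Tools for the local analysis: odd cores and four-groups acting on groups of odd order

The fixed-point formula of a four-group on a group of odd order is proved by splitting off inverted
elements, so it does not need solvability.
-/

set_option autoImplicit false
set_option linter.unusedSectionVars false

namespace Cfsg.Agent.DegThreeP

open Subgroup

universe u

/-! ### Two commuting involutory automorphisms of a group of odd order -/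

section Split

variable {K : Type u} [Group K] [Finite K]

/-- The square root in a group of odd order. -/
noncomputable def rt (x : K) : K := x ^ (Nat.card K / 2 + 1)

variable (hodd : Odd (Nat.card K))
include hodd

theorem pow_two_rt (x : K) : x ^ (2 * (Nat.card K / 2 + 1)) = x := by
  obtain ⟨m, hm⟩ := hodd
  have h : x ^ (2 * m + 1) = 1 := hm ▸ pow_card_eq_one'
  rw [hm, show (2 * m + 1) / 2 + 1 = m + 1 by omega, show 2 * (m + 1) = 2 * m + 1 + 1 by ring,
    pow_succ, h, one_mul]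

theorem rt_mul_rt (x : K) : rt x * rt x = x := by
  rw [rt, ← pow_add, ← two_mul, pow_two_rt hodd]

theorem rt_sq (x : K) : rt (x * x) = x := by
  rw [rt, ← pow_two, ← pow_mul, pow_two_rt hodd]

theorem sq_inj {x y : K} (h : x * x = y * y) : x = y := by
  rw [← rt_sq hodd x, ← rt_sq hodd y, h]

omit hodd

theorem rt_map (φ : K →* K) (x : K) : φ (rt x) = rt (φ x) := map_pow φ x _

theorem rt_inv (x : K) : rt x⁻¹ = (rt x)⁻¹ := inv_pow x _

/-- A subgroup stable under an involutory automorphism splits into fixed and inverted elements. -/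
noncomputable def splitEquiv (hodd : Odd (Nat.card K)) (φ : K →* K) (hφ : ∀ x, φ (φ x) = x)
    (M : Subgroup K) (hM : ∀ x ∈ M, φ x ∈ M) :
    {x : K // x ∈ M ∧ φ x = x} × {x : K // x ∈ M ∧ φ x = x⁻¹} ≃ M where
  toFun q := ⟨q.1.1 * q.2.1, mul_mem q.1.2.1 q.2.2.1⟩
  invFun x :=
    (⟨(x : K) * (rt ((φ x)⁻¹ * x))⁻¹,
      mul_mem x.2 (inv_mem (pow_mem (mul_mem (inv_mem (hM _ x.2)) x.2) _)), by
      have hv : φ (rt ((φ x)⁻¹ * x)) = (rt ((φ x)⁻¹ * (x : K)))⁻¹ := by
        rw [rt_map, map_mul, map_inv, hφ, ← rt_inv, _root_.mul_inv_rev, inv_inv]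
      rw [map_mul, map_inv, hv, inv_inv, eq_mul_inv_iff_mul_eq, mul_assoc, rt_mul_rt hodd,
        mul_inv_cancel_left]⟩,
    ⟨rt ((φ x)⁻¹ * x), pow_mem (mul_mem (inv_mem (hM _ x.2)) x.2) _, by
        rw [rt_map, map_mul, map_inv, hφ, ← rt_inv, _root_.mul_inv_rev, inv_inv]⟩)
  left_inv q := by
    obtain ⟨⟨s, -, hs⟩, ⟨v, -, hv⟩⟩ := q
    have e : rt ((φ (s * v))⁻¹ * (s * v)) = v := by
      rw [map_mul, hs, hv, _root_.mul_inv_rev, inv_inv, mul_assoc, inv_mul_cancel_left,
        rt_sq hodd]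
    simp only [Prod.mk.injEq, Subtype.mk.injEq, e, mul_inv_cancel_right, and_self]
  right_inv x := Subtype.ext (inv_mul_cancel_right _ _)

variable (φ ψ : K →* K) (hφ : ∀ x, φ (φ x) = x) (hψ : ∀ x, ψ (ψ x) = x)
  (hc : ∀ x, φ (ψ x) = ψ (φ x))

/-- The unique solution of `y * x⁻¹ * y = z`. -/
noncomputable def solve (x z : K) : K := rt x * rt ((rt x)⁻¹ * z * (rt x)⁻¹) * rt x

theorem solve_eq (hodd : Odd (Nat.card K)) (x z : K) : solve x z * x⁻¹ * solve x z = z := by
  have hx := rt_mul_rt hodd x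
  have hu := rt_mul_rt hodd ((rt x)⁻¹ * z * (rt x)⁻¹)
  unfold solve
  generalize rt ((rt x)⁻¹ * z * (rt x)⁻¹) = u at hu ⊢
  generalize rt x = s at hx hu ⊢
  subst hx
  calc s * u * s * (s * s)⁻¹ * (s * u * s) = s * (u * u) * s := by group
    _ = z := by rw [hu]; group

theorem eq_solve (hodd : Odd (Nat.card K)) {x y z : K} (h : y * x⁻¹ * y = z) : y = solve x z := by
  have hx := rt_mul_rt hodd x
  unfold solve
  generalize rt x = s at hx ⊢
  subst hx
  have e : s⁻¹ * z * s⁻¹ = (s⁻¹ * y * s⁻¹) * (s⁻¹ * y * s⁻¹) := by rw [← h]; group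
  rw [e, rt_sq hodd]
  group

include hφ hψ hc

theorem solve_fixed (hodd : Odd (Nat.card K)) {x : K} (hx : φ x = x⁻¹) :
    φ (solve x (ψ x)) = (solve x (ψ x))⁻¹ ∧ ψ (solve x (ψ x)) = solve x (ψ x) := by
  have e := solve_eq hodd x (ψ x)
  generalize hy : solve x (ψ x) = y at e ⊢
  constructor
  · have e' := congrArg φ e
    rw [map_mul, map_mul, map_inv, hc, hx, inv_inv, map_inv] at e'
    have := eq_solve hodd (x := x) (y := (φ y)⁻¹) (z := ψ x) (by
      rw [← inv_inj, ← e']; group)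
    rw [hy] at this
    exact inv_eq_iff_eq_inv.1 this
  · have e' := congrArg ψ e
    rw [map_mul, map_mul, map_inv, hψ] at e'
    have := eq_solve hodd (x := x) (y := ψ y) (z := ψ x) (by
      calc ψ y * x⁻¹ * ψ y = ψ y * (ψ y * (ψ x)⁻¹ * ψ y)⁻¹ * ψ y := by rw [e']
        _ = ψ x := by group)
    rwa [hy] at this

/-- The inverted elements of one involution split along the other. -/
noncomputable def invertedEquiv (hodd : Odd (Nat.card K)) :
    {a : K // ψ a = a ∧ φ a = a⁻¹} × {b : K // φ (ψ b) = b ∧ φ b = b⁻¹} ≃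
      {x : K // φ x = x⁻¹} where
  toFun q := ⟨q.1.1 * q.2.1 * q.1.1, by
    rw [map_mul, map_mul, q.1.2.2, q.2.2.2]; group⟩
  invFun x :=
    (⟨rt (solve x.1 (ψ x.1)), by
        rw [rt_map, (solve_fixed φ ψ hφ hψ hc hodd x.2).2], by
        rw [rt_map, (solve_fixed φ ψ hφ hψ hc hodd x.2).1, rt_inv]⟩,
    ⟨(rt (solve x.1 (ψ x.1)))⁻¹ * x.1 * (rt (solve x.1 (ψ x.1)))⁻¹, by
      obtain ⟨e1, e2⟩ := solve_fixed φ ψ hφ hψ hc hodd x.2
      have e := solve_eq hodd x.1 (ψ x.1)
      have hr := rt_mul_rt hodd (solve x.1 (ψ x.1))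
      have h1 : ψ (rt (solve x.1 (ψ x.1))) = rt (solve x.1 (ψ x.1)) := by rw [rt_map, e2]
      have h2 : φ (rt (solve x.1 (ψ x.1))) = (rt (solve x.1 (ψ x.1)))⁻¹ := by
        rw [rt_map, e1, rt_inv]
      generalize rt (solve x.1 (ψ x.1)) = a at hr h1 h2 ⊢
      generalize solve x.1 (ψ x.1) = y at hr e
      subst hr
      simp only [map_mul, map_inv, h1, ← e, h2, x.2]
      group, by
      have h2 : φ (rt (solve x.1 (ψ x.1))) = (rt (solve x.1 (ψ x.1)))⁻¹ := by
        rw [rt_map, (solve_fixed φ ψ hφ hψ hc hodd x.2).1, rt_inv]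
      rw [map_mul, map_mul, map_inv, x.2, h2]
      group⟩)
  left_inv q := by
    obtain ⟨⟨a, ha1, ha2⟩, ⟨b, hb1, hb2⟩⟩ := q
    have hb' : ψ b = b⁻¹ := by
      rw [← hφ (ψ b), hb1, hb2]
    have e : solve (a * b * a) (ψ (a * b * a)) = a * a := by
      symm
      refine eq_solve hodd ?_
      rw [map_mul, map_mul, ha1, hb']
      group
    have er : rt (solve (a * b * a) (ψ (a * b * a))) = a := by rw [e, rt_sq hodd]
    simp only [Prod.mk.injEq, Subtype.mk.injEq, er]
    exact ⟨trivial, by group⟩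
  right_inv x := Subtype.ext (by group)

/-- The fixed-point formula for a four-group acting on a group of odd order. -/
theorem four_fixed (hodd : Odd (Nat.card K)) :
    Nat.card K * Nat.card {x : K // φ x = x ∧ ψ x = x} ^ 2 =
      Nat.card {x : K // φ x = x} * Nat.card {x : K // ψ x = x} *
        Nat.card {x : K // φ (ψ x) = x} := by
  have hM1 : ∀ x ∈ ψ.eqLocus (MonoidHom.id K), φ x ∈ ψ.eqLocus (MonoidHom.id K) := by
    intro x hx
    show ψ (φ x) = φ x
    rw [← hc, show ψ x = x from hx]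
  have hM2 : ∀ x ∈ (φ.comp ψ).eqLocus (MonoidHom.id K),
      φ x ∈ (φ.comp ψ).eqLocus (MonoidHom.id K) := by
    intro x hx
    show φ (ψ (φ x)) = φ x
    rw [← hc, show φ (ψ x) = x from hx]
  have h0 := Nat.card_congr (splitEquiv hodd φ hφ ⊤ fun _ _ => mem_top _)
  have h1 := Nat.card_congr (splitEquiv hodd φ hφ _ hM1)
  have h2 := Nat.card_congr (splitEquiv hodd φ hφ _ hM2)
  have h3 := Nat.card_congr (invertedEquiv φ ψ hφ hψ hc hodd)
  rw [Nat.card_prod] at h0 h1 h2 h3
  have a0 : Nat.card (⊤ : Subgroup K) = Nat.card K := Subgroup.card_top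
  have a1 : Nat.card {x : K // x ∈ (⊤ : Subgroup K) ∧ φ x = x} = Nat.card {x : K // φ x = x} :=
    Nat.card_congr (Equiv.subtypeEquivRight fun x => by simp)
  have a2 : Nat.card {x : K // x ∈ (⊤ : Subgroup K) ∧ φ x = x⁻¹} =
      Nat.card {x : K // φ x = x⁻¹} := Nat.card_congr (Equiv.subtypeEquivRight fun x => by simp)
  have a3 : Nat.card {x : K // x ∈ ψ.eqLocus (MonoidHom.id K) ∧ φ x = x} =
      Nat.card {x : K // φ x = x ∧ ψ x = x} :=
    Nat.card_congr (Equiv.subtypeEquivRight fun x => by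
      show (ψ x = x ∧ φ x = x) ↔ _
      exact and_comm)
  have a4 : Nat.card {x : K // x ∈ ψ.eqLocus (MonoidHom.id K) ∧ φ x = x⁻¹} =
      Nat.card {a : K // ψ a = a ∧ φ a = a⁻¹} := rfl
  have a5 : Nat.card {x : K // x ∈ (φ.comp ψ).eqLocus (MonoidHom.id K) ∧ φ x = x} =
      Nat.card {x : K // φ x = x ∧ ψ x = x} :=
    Nat.card_congr (Equiv.subtypeEquivRight fun x => by
      show (φ (ψ x) = x ∧ φ x = x) ↔ _
      constructor
      · rintro ⟨h, h'⟩
        exact ⟨h', by rw [← hφ (ψ x), h, h']⟩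
      · rintro ⟨h, h'⟩
        exact ⟨by rw [h', h], h⟩)
  have a6 : Nat.card (ψ.eqLocus (MonoidHom.id K)) = Nat.card {x : K // ψ x = x} := rfl
  have a7 : Nat.card ((φ.comp ψ).eqLocus (MonoidHom.id K)) =
      Nat.card {x : K // φ (ψ x) = x} := rfl
  have a8 : Nat.card {x : K // x ∈ (φ.comp ψ).eqLocus (MonoidHom.id K) ∧ φ x = x⁻¹} =
      Nat.card {b : K // φ (ψ b) = b ∧ φ b = b⁻¹} := rfl
  rw [a0, a1, a2] at h0
  rw [a3, a4, a6] at h1
  rw [a5, a8, a7] at h2
  rw [← h0, ← h1, ← h2, ← h3]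
  ring

end Split

/-! ### Subgroups of a group -/

variable {G : Type u} [Group G] [Finite G]

/-- The formula for commuting involutions normalising a subgroup of odd order. -/
theorem four_fixed_subgroup {K : Subgroup G} (hK : Odd (Nat.card K)) {e f : G} (he : e * e = 1)
    (hf : f * f = 1) (hc : e * f = f * e) (heK : ∀ x ∈ K, e * x * e⁻¹ ∈ K)
    (hfK : ∀ x ∈ K, f * x * f⁻¹ ∈ K) :
    Nat.card K * Nat.card ↥(K ⊓ centralizer ({e, f} : Set G)) ^ 2 =
      Nat.card ↥(K ⊓ centralizer ({e} : Set G)) * Nat.card ↥(K ⊓ centralizer ({f} : Set G)) *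
        Nat.card ↥(K ⊓ centralizer ({e * f} : Set G)) := by
  let cj : ∀ a : G, (∀ x ∈ K, a * x * a⁻¹ ∈ K) → (K →* K) := fun a ha =>
    { toFun := fun x => ⟨a * x * a⁻¹, ha x x.2⟩
      map_one' := Subtype.ext (by simp)
      map_mul' := fun x y => Subtype.ext (by simp only [Subgroup.coe_mul]; group) }
  have hv : ∀ (a : G) (ha : ∀ x ∈ K, a * x * a⁻¹ ∈ K) (x : K),
      ((cj a ha x : K) : G) = a * x * a⁻¹ := fun _ _ _ => rfl
  have inv : ∀ {a : G} (ha : ∀ x ∈ K, a * x * a⁻¹ ∈ K), a * a = 1 → ∀ x,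
      cj a ha (cj a ha x) = x := fun {a} ha h x => Subtype.ext (by
    rw [hv, hv, show a * (a * (x : G) * a⁻¹) * a⁻¹ = a * a * x * (a * a)⁻¹ by group, h]; simp)
  have hcc : ∀ x, cj e heK (cj f hfK x) = cj f hfK (cj e heK x) := fun x => Subtype.ext (by
    rw [hv, hv, hv, hv, show e * (f * (x : G) * f⁻¹) * e⁻¹ = e * f * x * (e * f)⁻¹ by group, hc]
    group)
  have key := four_fixed (cj e heK) (cj f hfK) (inv heK he) (inv hfK hf) hcc hK
  have fixIff : ∀ (a : G) (x : G), a * x * a⁻¹ = x ↔ x ∈ centralizer ({a} : Set G) := fun a x => by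
    rw [mem_centralizer_singleton_iff, mul_inv_eq_iff_eq_mul, eq_comm]
  have sub : ∀ (P : K → Prop) (S : Subgroup G), (∀ x : K, P x ↔ (x : G) ∈ S) →
      Nat.card {x : K // P x} = Nat.card ↥(K ⊓ S) := fun P S h =>
    Nat.card_congr
      { toFun := fun x => ⟨x.1, x.1.2, (h _).1 x.2⟩
        invFun := fun x => ⟨⟨x, x.2.1⟩, (h _).2 x.2.2⟩
        left_inv := fun _ => rfl
        right_inv := fun _ => rfl }
  rw [sub (fun x => cj e heK x = x) (centralizer ({e} : Set G)) fun x => by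
      rw [← fixIff, Subtype.ext_iff, hv],
    sub (fun x => cj f hfK x = x) (centralizer ({f} : Set G)) fun x => by rw [← fixIff, Subtype.ext_iff, hv],
    sub (fun x => cj e heK (cj f hfK x) = x) (centralizer ({e * f} : Set G)) fun x => by
      rw [← fixIff, Subtype.ext_iff, hv, hv, show e * (f * (x : G) * f⁻¹) * e⁻¹ =
        e * f * x * (e * f)⁻¹ by group],
    sub (fun x => cj e heK x = x ∧ cj f hfK x = x) (centralizer ({e, f} : Set G)) fun x => by
      rw [Subtype.ext_iff, Subtype.ext_iff, hv, hv, fixIff, fixIff, mem_centralizer_singleton_iff,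
        mem_centralizer_singleton_iff, mem_centralizer_iff]
      refine ⟨fun h y hy => ?_, fun h => ⟨(h e (Or.inl rfl)).symm, (h f (Or.inr rfl)).symm⟩⟩
      rcases hy with rfl | rfl
      exacts [h.1.symm, h.2.symm]] at key
  exact key

/-- A group whose Sylow 2-subgroups are four-groups with no fusion has an odd core of index four. -/
theorem exists_odd_core {M : Subgroup G} (h8 : ¬ 8 ∣ Nat.card M) {z v : G} (hzM : z ∈ M)
    (hvM : v ∈ M) (hz : orderOf z = 2) (hv : orderOf v = 2) (hne : z ≠ v) (hzv : z * v = v * z)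
    (hfus : ∀ n ∈ M, (n * z * n⁻¹ = z ∨ n * z * n⁻¹ = v ∨ n * z * n⁻¹ = z * v) →
      (∀ u, (u = z ∨ u = v ∨ u = z * v) →
        n * u * n⁻¹ = z ∨ n * u * n⁻¹ = v ∨ n * u * n⁻¹ = z * v) → n * z * n⁻¹ = z) :
    ∃ K : Subgroup G, K ≤ M ∧ Odd (Nat.card K) ∧ Nat.card M = 4 * Nat.card K ∧
      ∀ x, x ∈ K ↔ x ∈ M ∧ Odd (orderOf x) := by
  have hz2 : z * z = 1 := by rw [← pow_two, ← hz, pow_orderOf_eq_one]
  have hv2 : v * v = 1 := by rw [← pow_two, ← hv, pow_orderOf_eq_one]
  have hz1 : z ≠ 1 := fun h => by rw [h, orderOf_one] at hz; omega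
  have hv1 : v ≠ 1 := fun h => by rw [h, orderOf_one] at hv; omega
  obtain ⟨U, hU, hzU, hvU, hUmem⟩ := GW.four_of_commuting hz2 hv2 hz1 hv1 hne hzv
  have hUM : U ≤ M := fun x hx => by
    rcases (hUmem x).1 hx with rfl | rfl | rfl | rfl
    exacts [one_mem M, hzM, hvM, mul_mem hzM hvM]
  have : Fact (Nat.Prime 2) := ⟨Nat.prime_two⟩
  set U' := U.subgroupOf M with hU'
  have hcard : Nat.card U' = 4 := by
    rw [hU', Nat.card_congr (subgroupOfEquivOfLe hUM).toEquiv]; exact hU.1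
  have hfac : (Nat.card M).factorization 2 = 2 := by
    have h4 : 4 ∣ Nat.card M := hcard ▸ card_subgroup_dvd_card U'
    have hpos : Nat.card M ≠ 0 := Nat.card_pos.ne'
    apply le_antisymm
    · by_contra hlt
      exact h8 ((show (8 : ℕ) = 2 ^ 3 by norm_num) ▸
        (Nat.prime_two.pow_dvd_iff_le_factorization hpos).2 (by omega))
    · exact (Nat.prime_two.pow_dvd_iff_le_factorization hpos).1 h4
  let P : Sylow 2 M := Sylow.ofCard U' (by rw [hcard, hfac]; norm_num)
  have hP : ∀ g : M, g ∈ (P : Subgroup M) ↔ (g : G) ∈ U := fun g => Iff.rfl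
  have hcomm : ∀ a ∈ U, ∀ b ∈ U, a * b = b * a := by
    intro a ha b hb
    calc a * b = (a * b)⁻¹ := (inv_eq_of_mul_eq_one_right (hU.2 _ (mul_mem ha hb))).symm
      _ = b⁻¹ * a⁻¹ := _root_.mul_inv_rev a b
      _ = b * a := by
        rw [inv_eq_of_mul_eq_one_right (hU.2 b hb), inv_eq_of_mul_eq_one_right (hU.2 a ha)]
  have hNC : normalizer ((P : Subgroup M) : Set M) ≤ centralizer ((P : Subgroup M) : Set M) := by
    intro n hn
    have hconj : ∀ u, (u = z ∨ u = v ∨ u = z * v) → (n : G) * u * (n : G)⁻¹ = z ∨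
        (n : G) * u * (n : G)⁻¹ = v ∨ (n : G) * u * (n : G)⁻¹ = z * v := by
      intro u hu
      have huU : u ∈ U := (hUmem u).2 (Or.inr hu)
      have h := (Subgroup.mem_normalizer_iff.1 hn ⟨u, hUM huU⟩).1 ((hP _).2 huU)
      rcases (hUmem _).1 ((hP _).1 h) with h | h
      · exfalso
        simp only [Subgroup.coe_mul, InvMemClass.coe_inv, mul_inv_eq_one] at h
        have u1 : u = 1 := by simpa using h
        rcases hu with rfl | rfl | rfl
        · exact hz1 u1
        · exact hv1 u1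
        · exact hne (by rw [mul_eq_one_iff_eq_inv.1 u1, inv_eq_of_mul_eq_one_right hv2])
      · simpa using h
    have hnz := hfus n n.2 (hconj z (Or.inl rfl)) hconj
    -- an element centralising `z` induces at most an involution, but has no room for one
    have hn2 : ((n : G) * n) * v * ((n : G) * n)⁻¹ = v := by
      rcases hconj v (Or.inr (Or.inl rfl)) with h | h | h
      · exact absurd (mul_left_cancel (mul_right_cancel (h.trans hnz.symm))) hne.symm
      · rw [show ((n : G) * n) * v * ((n : G) * n)⁻¹ = n * (n * v * (n : G)⁻¹) * (n : G)⁻¹ by group,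
          h, h]
      · rw [show ((n : G) * n) * v * ((n : G) * n)⁻¹ = n * (n * v * (n : G)⁻¹) * (n : G)⁻¹ by group,
          h, show (n : G) * (z * v) * (n : G)⁻¹ = n * z * (n : G)⁻¹ * (n * v * (n : G)⁻¹) by group,
          hnz, h, ← mul_assoc, hz2, one_mul]
    have hall : ∀ m : G, m * v * m⁻¹ = v → m * z * m⁻¹ = z → ∀ u ∈ U, m * u = u * m := by
      intro m h1 h2 u hu
      have c1 : m * v = v * m := mul_inv_eq_iff_eq_mul.1 h1
      have c2 : m * z = z * m := mul_inv_eq_iff_eq_mul.1 h2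
      rcases (hUmem u).1 hu with rfl | rfl | rfl | rfl
      · rw [mul_one, one_mul]
      · exact c2
      · exact c1
      · rw [← mul_assoc, c2, mul_assoc, c1, mul_assoc]
    -- split `n` into its parts of odd and of two-power order
    obtain ⟨k, m, hm, hkm⟩ := Nat.exists_eq_two_pow_mul_odd (orderOf_pos n).ne'
    have hx2 : n ^ m ∈ (P : Subgroup M) := by
      have hxn : n ^ m ∈ normalizer ((P : Subgroup M) : Set M) := pow_mem hn m
      have hp : IsPGroup 2 (zpowers (n ^ m)) := by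
        refine IsPGroup.of_card (n := k) ?_
        rw [Nat.card_zpowers, orderOf_pow' n (Odd.pos hm).ne', hkm,
          Nat.gcd_eq_right (Dvd.intro_left _ rfl), Nat.mul_div_cancel _ (Odd.pos hm)]
      have hle : zpowers (n ^ m) ≤ normalizer ((P : Subgroup M) : Set M) := by
        rw [zpowers_le]; exact hxn
      have hsup := IsPGroup.to_sup_of_normal_right' hp P.2 hle
      have := P.3 hsup le_sup_right
      rw [← this]
      exact mem_sup_left (mem_zpowers _)
    refine mem_centralizer_iff.2 fun u hu => ?_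
    refine Subtype.ext ?_
    show (u : G) * n = n * u
    refine (hall n ?_ hnz u ((hP _).1 hu)).symm
    obtain ⟨j, rfl⟩ := hm
    have hx : ((n : G) ^ (2 * j + 1)) * v * ((n : G) ^ (2 * j + 1))⁻¹ = v := by
      rw [hcomm _ (by simpa using (hP _).1 hx2) v hvU, mul_inv_cancel_right]
    have hj : ∀ i : ℕ, ((n : G) * n) ^ i * v * (((n : G) * n) ^ i)⁻¹ = v := fun i => by
      induction i with
      | zero => simp
      | succ i ih =>
        rw [pow_succ, show ((n : G) * n) ^ i * (n * n) * v * (((n : G) * n) ^ i * (n * n))⁻¹ =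
          ((n : G) * n) ^ i * ((n * n) * v * ((n : G) * n)⁻¹) * (((n : G) * n) ^ i)⁻¹ by group,
          hn2, ih]
    rw [pow_succ, pow_mul, sq] at hx
    have hjv := hj j
    generalize ((n : G) * n) ^ j = a at hx hjv
    calc (n : G) * v * (n : G)⁻¹ = a⁻¹ * (a * n * v * (a * n)⁻¹) * a := by group
      _ = a⁻¹ * (a * v * a⁻¹) * a := by rw [hx, hjv]
      _ = v := by group
  refine ⟨((MonoidHom.transferSylow P hNC).ker).map M.subtype, map_subtype_le _, ?_, ?_, ?_⟩
  · rw [Nat.card_congr (equivMapOfInjective _ M.subtype M.subtype_injective).toEquiv.symm]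
    exact Nat.not_even_iff_odd.1 fun h =>
      MonoidHom.not_dvd_card_ker_transferSylow P hNC (even_iff_two_dvd.1 h)
  · rw [Nat.card_congr (equivMapOfInjective _ M.subtype M.subtype_injective).toEquiv.symm,
      ← (MonoidHom.ker_transferSylow_isComplement' P hNC).card_mul_card, mul_comm]
    exact congrArg (· * _) hcard
  · intro x
    constructor
    · rintro ⟨y, hy, rfl⟩
      refine ⟨y.2, ?_⟩
      rw [Subgroup.subtype_apply, Subgroup.orderOf_coe]
      refine Odd.of_dvd_nat ?_ (Subgroup.orderOf_dvd_natCard _ hy)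
      exact Nat.not_even_iff_odd.1 fun h =>
        MonoidHom.not_dvd_card_ker_transferSylow P hNC (even_iff_two_dvd.1 h)
    · rintro ⟨hxM, hx⟩
      refine ⟨⟨x, hxM⟩, MonoidHom.mem_ker.2 ?_, rfl⟩
      have h1 : orderOf (MonoidHom.transferSylow P hNC ⟨x, hxM⟩) ∣ orderOf x := by
        exact (orderOf_map_dvd _ _).trans (dvd_of_eq (Subgroup.orderOf_coe (⟨x, hxM⟩ : M)).symm)
      have h2 : orderOf (MonoidHom.transferSylow P hNC ⟨x, hxM⟩) ∣ 4 :=
        hcard ▸ orderOf_dvd_natCard _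
      rw [← orderOf_eq_one_iff]
      refine Nat.eq_one_of_dvd_coprimes ?_ h2 h1
      rw [show (4 : ℕ) = 2 ^ 2 by norm_num]
      exact Nat.Coprime.pow_left 2 (Nat.coprime_two_left.2 hx)

/-- The centraliser of an element of `A` in a semidirect product `K A` is the product of the
centralisers. -/
theorem cent_card {M K A : Subgroup G} (hA : A ≤ M) (hK : K ≤ M)
    (hKn : ∀ x ∈ M, ∀ y ∈ K, x * y * x⁻¹ ∈ K) (hcop : (Nat.card A).Coprime (Nat.card K))
    (hcard : Nat.card M = Nat.card A * Nat.card K) {u : G} (hu : u ∈ A) :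
    Nat.card ↥(M ⊓ centralizer ({u} : Set G)) =
      Nat.card ↥(A ⊓ centralizer ({u} : Set G)) * Nat.card ↥(K ⊓ centralizer ({u} : Set G)) := by
  have hd : ∀ g, g ∈ A → g ∈ K → g = 1 := fun g h1 h2 =>
    disjoint_def.1 (disjoint_of_coprime_natCard hcop) h1 h2
  let F : A × K → M := fun q => ⟨q.1 * q.2, mul_mem (hA q.1.2) (hK q.2.2)⟩
  have hF : Function.Injective F := by
    rintro ⟨t, y⟩ ⟨t', y'⟩ h
    have h' : (t : G) * y = t' * y' := congrArg Subtype.val h
    have e : (t' : G)⁻¹ * t = y' * (y : G)⁻¹ := by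
      rw [eq_mul_inv_iff_mul_eq, mul_assoc, h', inv_mul_cancel_left]
    have ht : t = t' := Subtype.ext (inv_mul_eq_one.1
      (hd _ (mul_mem (inv_mem t'.2) t.2) (e ▸ mul_mem y'.2 (inv_mem y.2)))).symm
    subst ht
    rw [Subtype.ext (mul_left_cancel h')]
  have hFs : Function.Surjective F := ((Nat.bijective_iff_injective_and_card F).2
    ⟨hF, by rw [Nat.card_prod, hcard]⟩).2
  rw [← Nat.card_prod]
  refine (Nat.card_congr (Equiv.ofBijective
    (fun q : ↥(A ⊓ centralizer ({u} : Set G)) × ↥(K ⊓ centralizer ({u} : Set G)) =>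
      (⟨q.1 * q.2, mul_mem (hA q.1.2.1) (hK q.2.2.1), mul_mem q.1.2.2 q.2.2.2⟩ :
        ↥(M ⊓ centralizer ({u} : Set G)))) ⟨?_, ?_⟩)).symm
  · rintro ⟨t, y⟩ ⟨t', y'⟩ h
    have h' : (t : G) * y = t' * y' := congrArg Subtype.val h
    have := @hF (⟨t, t.2.1⟩, ⟨y, y.2.1⟩) (⟨t', t'.2.1⟩, ⟨y', y'.2.1⟩) (Subtype.ext h')
    simp only [Prod.mk.injEq, Subtype.mk.injEq] at this
    rw [Subtype.ext this.1, Subtype.ext this.2]
  · rintro ⟨x, hxM, hxu⟩
    obtain ⟨⟨⟨t, ht⟩, ⟨y, hy⟩⟩, h⟩ := hFs ⟨x, hxM⟩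
    have hx : t * y = x := congrArg Subtype.val h
    have cx : x * u = u * x := mem_centralizer_singleton_iff.1 hxu
    have hk : (t * u * t⁻¹)⁻¹ * u ∈ K := by
      have e : (t * u * t⁻¹)⁻¹ * u = t * (u⁻¹ * y * u * y⁻¹) * t⁻¹ := by
        calc (t * u * t⁻¹)⁻¹ * u = t * u⁻¹ * t⁻¹ * (u * x) * x⁻¹ := by group
          _ = _ := by rw [← cx, ← hx]; group
      rw [e]
      refine hKn t (hA ht) _ (mul_mem ?_ (inv_mem hy))
      simpa using hKn u⁻¹ (inv_mem (hA hu)) y hy
    have ct : t * u = u * t := by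
      have := hd _ (mul_mem (inv_mem (mul_mem (mul_mem ht hu) (inv_mem ht))) hu) hk
      rw [inv_mul_eq_one] at this
      exact mul_inv_eq_iff_eq_mul.1 this
    have cy : y * u = u * y := by
      apply mul_left_cancel (a := t)
      rw [← mul_assoc, hx, ← mul_assoc, ct, mul_assoc u, hx, cx]
    exact ⟨(⟨t, ht, mem_centralizer_singleton_iff.2 ct⟩,
      ⟨y, hy, mem_centralizer_singleton_iff.2 cy⟩), Subtype.ext hx⟩

end Cfsg.Agent.DegThreeP
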