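import Cfsg.Agent.DegThreeP.Basic
import Cfsg.Agent.DegThreeP.LocalBTools
import Cfsg.Agent.Char.DefectZero
import Cfsg.Agent.BlkChar.PModular
import Cfsg.Agent.S4483
import Cfsg.Agent.S0942

/-!
# The case `f = 2p - 1`: the centraliser of an involution and the special point
-/

set_option autoImplicit false
set_option linter.unusedSectionVars false
set_option linter.style.haveILetI false

noncomputable section

namespace Cfsg.Agent.DegThreeP

open Cfsg Subgroup MulAction
open scoped Classical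

universe u v

variable {G : Type u} [Group G] [Fintype G] {Ω : Type v} [Fintype Ω] [MulAction G Ω] {p f c : ℕ}

/-- The hypotheses of the last part of the case `f = 2p - 1`. -/
structure BHyp (C : Chars G p f) (θ : IrrCharacter G) (Q : Param G Ω p) (L : Local G Ω p Q)
    (c : ℕ) : Prop where
  S : Setup G Ω p
  hf : f = 2 * p - 1
  hθ1 : (θ : G → ℂ) 1 = p
  hπ : ∀ g, (fix Ω g : ℂ) = 1 + (C.X : G → ℂ) g + (θ : G → ℂ) g
  I : Invol C 1 c
  hθt : ∀ t, orderOf t = 2 → (θ : G → ℂ) t = 1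
  hreal : ∀ g, ((C.X : G → ℂ) g).im = 0 ∧ ((θ : G → ℂ) g).im = 0

variable {C : Chars G p f} {θ : IrrCharacter G} {Q : Param G Ω p} {L : Local G Ω p Q}

/-! ### The Sylow 2-subgroup -/

namespace Local

variable (L)
include L

theorem σ_mem : L.σ ∈ (L.T : Subgroup G) := L.gen ▸ subset_closure (by simp)

theorem v_mem : L.v ∈ (L.T : Subgroup G) := L.gen ▸ subset_closure (by simp)

theorem z_mem : L.z ∈ (L.T : Subgroup G) := L.z_eq ▸ pow_mem L.σ_mem 2

theorem σ_pow_four : L.σ ^ 4 = 1 := L.orderOf_σ ▸ pow_orderOf_eq_one L.σ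

theorem orderOf_z : orderOf L.z = 2 := by
  rw [L.z_eq, orderOf_pow' L.σ two_ne_zero, L.orderOf_σ]; rfl

theorem z_sq : L.z * L.z = 1 := by rw [L.z_eq, ← pow_add, L.σ_pow_four]

theorem v_sq : L.v * L.v = 1 := by rw [← sq, ← L.orderOf_v, pow_orderOf_eq_one]

theorem v_inv : L.v⁻¹ = L.v := inv_eq_of_mul_eq_one_right L.v_sq

theorem zσ : L.z * L.σ = L.σ * L.z := by rw [L.z_eq, ← pow_succ, ← pow_succ']

theorem vσ : L.v * L.σ = L.σ⁻¹ * L.v := mul_inv_eq_iff_eq_mul.1 L.rel

theorem σ_inv_sq : (L.σ⁻¹) ^ 2 = L.z := by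
  rw [L.z_eq, inv_pow, inv_eq_of_mul_eq_one_right]
  rw [← pow_add, L.σ_pow_four]

theorem zv : L.z * L.v = L.v * L.z := by
  have h : L.v * L.z * L.v⁻¹ = L.z := by
    nth_rw 1 [L.z_eq]
    rw [← conj_pow, L.rel, L.σ_inv_sq]
  exact (mul_inv_eq_iff_eq_mul.1 h).symm

/-- The second kind of involution outside the centre. -/
def w : G := L.σ * L.v

theorem w_mem : L.w ∈ (L.T : Subgroup G) := mul_mem L.σ_mem L.v_mem

theorem w_sq : L.w * L.w = 1 := by
  rw [w, mul_assoc, ← mul_assoc L.v, L.vσ, mul_assoc, L.v_sq, mul_one, mul_inv_cancel]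

theorem w_ne_one : L.w ≠ 1 := fun h => by
  have := L.orderOf_σ
  rw [eq_inv_of_mul_eq_one_left h, L.v_inv, L.orderOf_v] at this
  omega

theorem orderOf_w : orderOf L.w = 2 := orderOf_eq_prime (by rw [sq, L.w_sq]) L.w_ne_one

theorem zw : L.z * L.w = L.w * L.z := by
  rw [w, ← mul_assoc, L.zσ, mul_assoc, L.zv, ← mul_assoc]

theorem z_ne_v : L.z ≠ L.v := fun h => by
  have h1 := L.rel
  rw [← h, L.zσ, mul_inv_cancel_right, eq_inv_iff_mul_eq_one, ← sq] at h1
  have := orderOf_dvd_of_pow_eq_one h1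
  rw [L.orderOf_σ] at this
  norm_num at this

theorem z_ne_w : L.z ≠ L.w := fun h => by
  have h1 : L.σ = L.v := by
    rw [w, L.z_eq, sq] at h
    exact mul_left_cancel h
  have := L.orderOf_σ
  rw [h1, L.orderOf_v] at this
  omega

theorem σ_conj_v : L.σ * L.v * L.σ⁻¹ = L.z * L.v := by
  have h : L.v * L.σ⁻¹ = L.σ * L.v := by
    rw [mul_inv_eq_iff_eq_mul, mul_assoc, L.vσ, mul_inv_cancel_left]
  rw [mul_assoc, h, ← mul_assoc, ← sq, ← L.z_eq]

theorem v_conj_w : L.v * L.w * L.v⁻¹ = L.z * L.w := by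
  rw [w, ← mul_assoc L.v, L.vσ, mul_assoc _ L.v L.v, L.v_sq, mul_one, L.v_inv, ← mul_assoc L.z,
    L.z_eq, ← pow_succ, inv_eq_of_mul_eq_one_right (show L.σ * L.σ ^ (2 + 1) = 1 by
      rw [← pow_succ', L.σ_pow_four])]

theorem vw : L.v * L.w = L.σ⁻¹ := by
  rw [w, ← mul_assoc, L.vσ, mul_assoc, L.v_sq, mul_one]

theorem orderOf_zv : orderOf (L.z * L.v) = 2 := by
  refine orderOf_eq_prime ?_ fun h => L.z_ne_v ?_
  · rw [(show Commute L.z L.v from L.zv).mul_pow, sq, sq, L.z_sq, L.v_sq, one_mul]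
  · rw [eq_inv_of_mul_eq_one_left h, L.v_inv]

theorem z_a : L.z • L.a = L.a := (L.fix_z _).2 (Or.inl rfl)

theorem z_b : L.z • L.b = L.b := (L.fix_z _).2 (Or.inr (Or.inl rfl))

theorem z_b' : L.z • L.b' = L.b' := (L.fix_z _).2 (Or.inr (Or.inr rfl))

theorem v_a : L.v • L.a = L.a := (L.fix_v _).2 (Or.inl rfl)

theorem v_b : L.v • L.b = L.b := (L.fix_v _).2 (Or.inr (Or.inl rfl))

theorem v_b' : L.v • L.b' = L.b' := (L.fix_v _).2 (Or.inr (Or.inr rfl))

theorem w_a : L.w • L.a = L.a := by rw [w, mul_smul, L.v_a, L.σ_a]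

theorem w_b : L.w • L.b = L.b' := by rw [w, mul_smul, L.v_b, L.σ_b]

theorem w_b' : L.w • L.b' = L.b := by rw [w, mul_smul, L.v_b', L.σ_b']

theorem T_fix_a {t : G} (ht : t ∈ (L.T : Subgroup G)) : t • L.a = L.a := by
  have h : (L.T : Subgroup G) ≤ stabilizer G L.a := by
    rw [← L.gen, closure_le]
    rintro x (rfl | rfl)
    exacts [L.σ_a, L.v_a]
  exact h ht

theorem T_comm_z {t : G} (ht : t ∈ (L.T : Subgroup G)) : t ∈ centralizer ({L.z} : Set G) := by
  have h : (L.T : Subgroup G) ≤ centralizer ({L.z} : Set G) := by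
    rw [← L.gen, closure_le]
    rintro x (rfl | rfl)
    exacts [mem_centralizer_singleton_iff.2 L.zσ.symm, mem_centralizer_singleton_iff.2 L.zv.symm]
  exact h ht

theorem card_not_dvd : ¬ 16 ∣ Nat.card G := fun h => by
  have : Fact (Nat.Prime 2) := ⟨Nat.prime_two⟩
  have h2 := L.T.pow_dvd_card_of_pow_dvd_card (n := 4) h
  rw [L.card_T] at h2
  norm_num at h2

/-- The points fixed by the whole Sylow subgroup. -/
theorem T_fix_only {q : Ω} (h : ∀ t ∈ (L.T : Subgroup G), t • q = q) : q = L.a := by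
  rcases (L.fix_z q).1 (h _ L.z_mem) with e | e | e
  · exact e
  · have := h _ L.σ_mem
    rw [e, L.σ_b] at this
    exact absurd this.symm L.bb'
  · have := h _ L.σ_mem
    rw [e, L.σ_b'] at this
    exact absurd this L.bb'

/-- A two-point stabiliser has order not divisible by eight. -/
theorem eight_not_dvd {q r : Ω} (hqr : q ≠ r) :
    ¬ 8 ∣ Nat.card ↥(stabilizer G q ⊓ stabilizer G r) := fun h => by
  have : Fact (Nat.Prime 2) := ⟨Nat.prime_two⟩
  obtain ⟨P, hP⟩ := Sylow.exists_subgroup_card_pow_prime 2 (n := 3)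
    (G := ↥(stabilizer G q ⊓ stabilizer G r)) h
  set R := P.map (stabilizer G q ⊓ stabilizer G r).subtype
  have hR : Nat.card R = 8 := by
    rw [card_map_of_injective (subtype_injective _), hP]; rfl
  obtain ⟨R', hR'⟩ := (IsPGroup.of_card (p := 2) (n := 3) hR).exists_le_sylow
  obtain ⟨g, hg⟩ := MulAction.exists_smul_eq G L.T R'
  have hcard : Nat.card R' = 8 := by
    rw [← L.card_T]; exact Nat.card_congr (Sylow.equiv R' L.T).toEquiv
  have e : R = (R' : Subgroup G) :=
    eq_of_le_of_card_ge hR' (by rw [hR, hcard])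
  have hfix : ∀ t ∈ (L.T : Subgroup G), (g * t * g⁻¹) • q = q ∧ (g * t * g⁻¹) • r = r := by
    intro t ht
    have hm : g * t * g⁻¹ ∈ (R' : Subgroup G) := by
      rw [← hg, Sylow.coe_subgroup_smul]
      exact ⟨t, ht, rfl⟩
    rw [← e] at hm
    have hle := map_subtype_le P hm
    exact ⟨(mem_inf.1 hle).1, (mem_inf.1 hle).2⟩
  have key : ∀ x, (∀ t ∈ (L.T : Subgroup G), (g * t * g⁻¹) • x = x) → g⁻¹ • x = L.a := by
    intro x hx
    refine L.T_fix_only fun t ht => ?_
    conv_rhs => rw [← hx t ht]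
    rw [← mul_smul, ← mul_smul]
    congr 1
    group
  exact hqr (smul_left_cancel g⁻¹ ((key q fun t ht => (hfix t ht).1).trans
    (key r fun t ht => (hfix t ht).2).symm))

end Local

/-! ### The centraliser of the central involution -/

/-- `O` is the set of elements of odd order of `M`. -/
def IsOddPart (O M : Subgroup G) : Prop :=
  O ≤ M ∧ Odd (Nat.card O) ∧ ∀ x, x ∈ O ↔ x ∈ M ∧ Odd (orderOf x)

theorem IsOddPart.conj_mem {O M : Subgroup G} (h : IsOddPart O M) {n x : G}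
    (hn : ∀ y ∈ M, n * y * n⁻¹ ∈ M) (hx : x ∈ O) : n * x * n⁻¹ ∈ O := by
  rw [h.2.2] at hx ⊢
  refine ⟨hn _ hx.1, ?_⟩
  rw [show orderOf (n * x * n⁻¹) = orderOf x from (MulAut.conj n).orderOf_eq x]
  exact hx.2

theorem orderOf_conj' (g x : G) : orderOf (g * x * g⁻¹) = orderOf x := (MulAut.conj g).orderOf_eq x

/-- The centraliser acting on the fixed points. -/
def centPerm (z : G) : centralizer ({z} : Set G) →* Equiv.Perm ↥(fixedBy Ω z) where
  toFun g :=
    { toFun := fun q => ⟨(g : G) • (q : Ω), by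
        show z • ((g : G) • (q : Ω)) = _
        rw [← mul_smul, ← mem_centralizer_singleton_iff.1 g.2, mul_smul,
          show z • (q : Ω) = q from q.2]⟩
      invFun := fun q => ⟨(g : G)⁻¹ • (q : Ω), by
        show z • ((g : G)⁻¹ • (q : Ω)) = _
        rw [← mul_smul, ← mem_centralizer_singleton_iff.1 (inv_mem g.2), mul_smul,
          show z • (q : Ω) = q from q.2]⟩
      left_inv := fun q => Subtype.ext (inv_smul_smul _ _)
      right_inv := fun q => Subtype.ext (smul_inv_smul _ _) }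
  map_one' := Equiv.ext fun q => Subtype.ext (one_smul _ _)
  map_mul' g k := Equiv.ext fun q => Subtype.ext (mul_smul (g : G) (k : G) (q : Ω))

variable (h : BHyp C θ Q L c)
include h

theorem BHyp.fix_invol {t : G} (ht : orderOf t = 2) : fix Ω t = 3 := by
  have := h.hπ t
  rw [h.I.X_val t ht, h.hθt t ht] at this
  norm_num at this
  exact_mod_cast this

theorem BHyp.exists_O :
    ∃ O : Subgroup G, IsOddPart O (centralizer ({L.z} : Set G)) ∧
      Nat.card (centralizer ({L.z} : Set G)) = 8 * Nat.card O := by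
  set M := centralizer ({L.z} : Set G) with hM
  set s : M →* ℤˣ := Equiv.Perm.sign.comp (centPerm (Ω := Ω) L.z) with hs
  set σ' : M := ⟨L.σ, L.T_comm_z L.σ_mem⟩
  set v' : M := ⟨L.v, L.T_comm_z L.v_mem⟩
  set z' : M := ⟨L.z, L.T_comm_z L.z_mem⟩
  have hσ : s σ' = -1 := by
    have e : centPerm (Ω := Ω) L.z σ' = Equiv.swap ⟨L.b, L.z_b⟩ ⟨L.b', L.z_b'⟩ := by
      refine Equiv.ext fun ⟨q, hq⟩ => Subtype.ext ?_
      show L.σ • q = _
      rcases (L.fix_z q).1 hq with rfl | rfl | rfl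
      · rw [Equiv.swap_apply_of_ne_of_ne (fun e => L.ab (congrArg Subtype.val e))
            (fun e => L.ab' (congrArg Subtype.val e)), L.σ_a]
      · rw [Equiv.swap_apply_left, L.σ_b]
      · rw [Equiv.swap_apply_right, L.σ_b']
    rw [hs, MonoidHom.comp_apply, e, Equiv.Perm.sign_swap (fun e => L.bb' (congrArg Subtype.val e))]
  have h1 : ∀ u : M, (∀ q : Ω, L.z • q = q → (u : G) • q = q) → s u = 1 := by
    intro u hu
    have e : centPerm (Ω := Ω) L.z u = 1 := Equiv.ext fun q => Subtype.ext (hu q q.2)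
    rw [hs, MonoidHom.comp_apply, e, map_one]
  have hidx : s.ker.index = 2 := by
    rw [Subgroup.index_ker, show s.range = ⊤ from ?_, Subgroup.card_top, Nat.card_eq_fintype_card]
    · rfl
    refine eq_top_iff.2 fun x _ => ?_
    rcases Int.units_eq_one_or x with rfl | rfl
    · exact one_mem _
    · exact ⟨σ', hσ⟩
  set M1 := s.ker.map M.subtype
  have hcard : Nat.card M = 2 * Nat.card M1 := by
    rw [card_map_of_injective M.subtype_injective, ← hidx, mul_comm,
      Subgroup.card_mul_index]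
  have hdvd : Nat.card M ∣ Nat.card G := M.card_subgroup_dvd_card
  have h8 : ¬ 8 ∣ Nat.card M1 := fun h8 =>
    L.card_not_dvd ((show 16 ∣ Nat.card M by rw [hcard]; omega).trans hdvd)
  have zM1 : L.z ∈ M1 := ⟨z', h1 z' fun _ hq => hq, rfl⟩
  have vM1 : L.v ∈ M1 :=
    ⟨v', h1 v' fun q hq => (L.fix_v q).2 ((L.fix_z q).1 hq), rfl⟩
  obtain ⟨K, hK, hKodd, hKcard, hKmem⟩ := exists_odd_core h8 zM1 vM1 L.orderOf_z L.orderOf_v
    L.z_ne_v L.zv (fun n hn _ _ => by
      rw [mem_centralizer_singleton_iff.1 (map_subtype_le _ hn), mul_inv_cancel_right])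
  refine ⟨K, ⟨hK.trans (map_subtype_le _), hKodd, fun x => ⟨fun hx => ?_, fun hx => ?_⟩⟩, ?_⟩
  · exact ⟨map_subtype_le _ ((hKmem x).1 hx).1, ((hKmem x).1 hx).2⟩
  · refine (hKmem x).2 ⟨⟨⟨x, hx.1⟩, ?_, rfl⟩, hx.2⟩
    have hd : orderOf (s ⟨x, hx.1⟩) ∣ orderOf x :=
      (orderOf_map_dvd s _).trans (dvd_of_eq (Subgroup.orderOf_coe (⟨x, hx.1⟩ : M)).symm)
    have hd2 : orderOf (s ⟨x, hx.1⟩) ∣ 2 :=
      orderOf_dvd_of_pow_eq_one (by rw [sq, Int.units_mul_self])
    exact orderOf_eq_one_iff.1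
      (Nat.eq_one_of_dvd_coprimes (Nat.coprime_two_left.2 hx.2) hd2 hd)
  · rw [hcard, hKcard]; ring

/-- A character of the principal 2-block is constant on the cosets of the odd core. -/
theorem BHyp.core_value {O : Subgroup G} (hO : IsOddPart O (centralizer ({L.z} : Set G)))
    (χ : IrrCharacter G) (hr : ∀ g, ((χ : G → ℂ) g).im = 0)
    (hd : Odd (charDegree (χ : G → ℂ))) {y : G} (hy : y ∈ O) :
    (χ : G → ℂ) (L.z * y) = (χ : G → ℂ) L.z := by
  have : Fact (Nat.Prime 2) := ⟨Nat.prime_two⟩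
  obtain ⟨M, hM⟩ := BlkChar.exists_isPModular 2 Nat.prime_two
  refine S0942.result 2 M hM L.z ⟨1, by rw [L.orderOf_z]; norm_num⟩ y ?_ χ
    ((S4483.result M hM).1 χ hr hd)
  refine ⟨⟨y, hO.1 hy⟩, ?_, rfl⟩
  have hN : (O.subgroupOf (centralizer ({L.z} : Set G))).Normal := ⟨fun x hx g =>
    hO.conj_mem (fun m hm => mul_mem (mul_mem g.2 hm) (inv_mem g.2)) hx⟩
  have hcop : (Nat.card ↥(O.subgroupOf (centralizer ({L.z} : Set G)))).Coprime 2 := by
    rw [Nat.card_congr (subgroupOfEquivOfLe hO.1).toEquiv]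
    exact hO.2.1.coprime_two_right
  exact (le_sSup (show O.subgroupOf (centralizer ({L.z} : Set G)) ∈
    {N : Subgroup ↥(centralizer ({L.z} : Set G)) | N.Normal ∧ (Nat.card N).Coprime 2} from
      ⟨hN, hcop⟩)) hy

theorem BHyp.degX : charDegree (C.X : G → ℂ) = 2 * p - 1 :=
  (Char.charDegree_of_eq C.deg_X).trans h.hf

theorem BHyp.odd_X : Odd (charDegree (C.X : G → ℂ)) := by
  rw [h.degX]
  have := h.S.five_le
  exact ⟨p - 1, by omega⟩

theorem BHyp.odd_θ : Odd (charDegree (θ : G → ℂ)) := by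
  rw [Char.charDegree_of_eq h.hθ1]; exact h.S.p_odd

/-- The odd core fixes the three points. -/
theorem BHyp.O_fix {O : Subgroup G} (hO : IsOddPart O (centralizer ({L.z} : Set G))) {y : G}
    (hy : y ∈ O) {q : Ω} (hq : L.z • q = q) : y • q = q := by
  have hX := h.core_value hO C.X (fun g => (h.hreal g).1) h.odd_X hy
  have hT := h.core_value hO θ (fun g => (h.hreal g).2) h.odd_θ hy
  have h3 : fix Ω (L.z * y) = 3 := by
    have h2 := h.hπ (L.z * y)
    rw [hX, hT, ← h.hπ, h.fix_invol L.orderOf_z] at h2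
    exact_mod_cast h2
  have hcomm : Commute L.z y := (mem_centralizer_singleton_iff.1 (hO.1 hy)).symm
  obtain ⟨m, hm⟩ := ((hO.2.2 y).1 hy).2
  have hpow : (L.z * y) ^ (2 * m + 1) = L.z := by
    rw [hcomm.mul_pow, ← hm, pow_orderOf_eq_one, mul_one, hm, pow_succ, pow_mul, sq, L.z_sq,
      one_pow, one_mul]
  have hsub : fixedBy Ω (L.z * y) ⊆ fixedBy Ω L.z := fun r hr => by
    have hle : zpowers (L.z * y) ≤ stabilizer G r := zpowers_le.2 hr
    exact hpow ▸ hle (pow_mem (mem_zpowers _) _)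
  have heq : fixedBy Ω (L.z * y) = fixedBy Ω L.z := by
    refine Set.eq_of_subset_of_ncard_le hsub ?_ (Set.toFinite _)
    rw [← Nat.card_coe_set_eq, ← Nat.card_coe_set_eq]
    exact le_of_eq ((h.fix_invol L.orderOf_z).trans h3.symm)
  have hq' : q ∈ fixedBy Ω (L.z * y) := heq ▸ hq
  have hzy : L.z • (y • q) = q := by rw [← mul_smul]; exact hq'
  calc y • q = L.z • (L.z • (y • q)) := by rw [← mul_smul L.z L.z, L.z_sq, one_smul]
    _ = q := by rw [hzy, hq]

/-- An element of odd order centralising an involution fixes the points fixed by it. -/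
theorem BHyp.odd_fix {u x : G} (hu : orderOf u = 2) (hx : Odd (orderOf x))
    (hc : x ∈ centralizer ({u} : Set G)) {q : Ω} (hq : u • q = q) : x • q = q := by
  obtain ⟨O, hO, -⟩ := h.exists_O
  obtain ⟨g, hg⟩ := isConj_iff.1 (h.I.isConj L.z u L.orderOf_z hu)
  have hm : g⁻¹ * x * g ∈ O := by
    refine (hO.2.2 _).2 ⟨mem_centralizer_singleton_iff.2 ?_, ?_⟩
    · calc g⁻¹ * x * g * L.z = g⁻¹ * (x * (g * L.z * g⁻¹)) * g := by group
        _ = g⁻¹ * ((g * L.z * g⁻¹) * x) * g := by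
          rw [hg, mem_centralizer_singleton_iff.1 hc]
        _ = L.z * (g⁻¹ * x * g) := by group
    · have := orderOf_conj' g⁻¹ x
      rw [inv_inv] at this
      rw [this]; exact hx
  have hz : L.z • (g⁻¹ • q) = g⁻¹ • q := by
    rw [← hg, mul_smul, mul_smul, smul_eq_iff_eq_inv_smul] at hq
    exact hq
  have := h.O_fix hO hm hz
  rw [mul_smul, mul_smul, smul_inv_smul] at this
  exact smul_left_cancel _ this

/-- The centraliser of the central involution fixes its special point. -/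
theorem BHyp.cent_fix_a {g : G} (hg : g ∈ centralizer ({L.z} : Set G)) : g • L.a = L.a := by
  obtain ⟨O, hO, hcard⟩ := h.exists_O
  set M := centralizer ({L.z} : Set G)
  have hT : (L.T : Subgroup G) ≤ M ⊓ stabilizer G L.a := fun t ht =>
    ⟨L.T_comm_z ht, L.T_fix_a ht⟩
  have hO' : O ≤ M ⊓ stabilizer G L.a := fun y hy => ⟨hO.1 hy, h.O_fix hO hy L.z_a⟩
  have hd : 8 * Nat.card O ∣ Nat.card ↥(M ⊓ stabilizer G L.a) := by
    refine Nat.Coprime.mul_dvd_of_dvd_of_dvd ?_ (L.card_T ▸ card_dvd_of_le hT)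
      (card_dvd_of_le hO')
    rw [show (8 : ℕ) = 2 ^ 3 by norm_num]
    exact Nat.Coprime.pow_left 3 (Nat.coprime_two_left.2 hO.2.1)
  have e : M ⊓ stabilizer G L.a = M :=
    eq_of_le_of_card_ge inf_le_left (by rw [hcard]; exact Nat.le_of_dvd Nat.card_pos hd)
  exact (e.ge hg).2

omit h

/-- `q` is the point fixed by the whole centraliser of `u`. -/
def Special (u : G) (q : Ω) : Prop := ∀ g ∈ centralizer ({u} : Set G), g • q = q

theorem Special.fix {u : G} {q : Ω} (hs : Special u q) : u • q = q :=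
  hs u (mem_centralizer_singleton_iff.2 rfl)

theorem Special.conj {u : G} {q : Ω} (hs : Special u q) (n : G) :
    Special (n * u * n⁻¹) (n • q) := by
  intro g hg
  have := hs (n⁻¹ * g * n) (mem_centralizer_singleton_iff.2 (by
    calc n⁻¹ * g * n * u = n⁻¹ * (g * (n * u * n⁻¹)) * n := by group
      _ = n⁻¹ * ((n * u * n⁻¹) * g) * n := by rw [mem_centralizer_singleton_iff.1 hg]
      _ = u * (n⁻¹ * g * n) := by group))
  rw [mul_smul, mul_smul, inv_smul_eq_iff] at this
  exact this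

theorem special_z_eq {q : Ω} (hs : Special L.z q) : q = L.a := L.T_fix_only fun t ht =>
  hs t (L.T_comm_z ht)

include h

theorem BHyp.special_z : Special L.z L.a := fun _ hg => h.cent_fix_a hg

theorem BHyp.exists_special {u : G} (hu : orderOf u = 2) : ∃ q : Ω, Special u q := by
  obtain ⟨g, hg⟩ := isConj_iff.1 (h.I.isConj L.z u L.orderOf_z hu)
  exact ⟨g • L.a, hg ▸ h.special_z.conj g⟩

theorem BHyp.special_unique {u : G} (hu : orderOf u = 2) {q r : Ω} (hq : Special u q)
    (hr : Special u r) : q = r := by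
  obtain ⟨g, hg⟩ := isConj_iff.1 (h.I.isConj u L.z hu L.orderOf_z)
  exact smul_left_cancel g
    ((special_z_eq (hg ▸ hq.conj g)).trans (special_z_eq (hg ▸ hr.conj g)).symm)

/-- The elements of the Sylow subgroup fixing `b`. -/
theorem BHyp.T_stab_b {u : G} (hu : u ∈ (L.T : Subgroup G)) (hb : u • L.b = L.b) :
    u = 1 ∨ u = L.z ∨ u = L.v ∨ u = L.z * L.v := by
  have hz1 : L.z ≠ 1 := fun e => by
    have := L.orderOf_z; rw [e, orderOf_one] at this; omega
  have hv1 : L.v ≠ 1 := fun e => by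
    have := L.orderOf_v; rw [e, orderOf_one] at this; omega
  obtain ⟨U, hU, hzU, hvU, hUmem⟩ :=
    GW.four_of_commuting L.z_sq L.v_sq hz1 hv1 L.z_ne_v L.zv
  have hle : U ≤ (L.T : Subgroup G) ⊓ stabilizer G L.b := fun x hx => by
    rcases (hUmem x).1 hx with rfl | rfl | rfl | rfl
    exacts [one_mem _, ⟨L.z_mem, L.z_b⟩, ⟨L.v_mem, L.v_b⟩,
      mul_mem (show L.z ∈ _ from ⟨L.z_mem, L.z_b⟩) (show L.v ∈ _ from ⟨L.v_mem, L.v_b⟩)]
  have h4 : Nat.card ↥((L.T : Subgroup G) ⊓ stabilizer G L.b) ≤ 4 := by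
    have hd : Nat.card ↥((L.T : Subgroup G) ⊓ stabilizer G L.b) ∣ 8 :=
      L.card_T ▸ card_dvd_of_le inf_le_left
    by_contra hlt
    have h8 : Nat.card ↥((L.T : Subgroup G) ⊓ stabilizer G L.b) = 8 := by
      have := Nat.le_of_dvd (by norm_num) hd
      interval_cases hN : Nat.card ↥((L.T : Subgroup G) ⊓ stabilizer G L.b) <;> omega
    have e : (L.T : Subgroup G) ⊓ stabilizer G L.b = (L.T : Subgroup G) :=
      eq_of_le_of_card_ge inf_le_left (by rw [h8, L.card_T])
    have := (e.ge L.σ_mem).2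
    exact L.bb' (this.symm.trans L.σ_b)
  have e := eq_of_le_of_card_ge hle (by rw [hU.1]; exact h4)
  exact (hUmem u).1 (e.ge ⟨hu, hb⟩)

/-- Only the central involution of the four-group has special point `a`. -/
theorem BHyp.not_special_v : ¬ Special L.v L.a := by
  intro hv
  have hzv : Special (L.z * L.v) L.a := by
    have := hv.conj L.σ
    rwa [L.σ_conj_v, L.σ_a] at this
  -- every involution of the stabiliser of `a` would have special point `a`
  have hT : ∀ u ∈ (L.T : Subgroup G), orderOf u = 2 → Special u L.a := by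
    intro u hu hu2
    by_cases hb : u • L.b = L.b
    · rcases h.T_stab_b hu hb with e | e | e | e
      · rw [e, orderOf_one] at hu2; omega
      · rw [e]; exact h.special_z
      · rw [e]; exact hv
      · rw [e]; exact hzv
    · obtain ⟨q, hq⟩ := h.exists_special hu2
      have hzq : L.z • q = q :=
        hq _ (mem_centralizer_singleton_iff.2 (mem_centralizer_singleton_iff.1 (L.T_comm_z hu)).symm)
      rcases (L.fix_z q).1 hzq with e | e | e
      · exact e ▸ hq
      · exact absurd (e ▸ hq.fix) hb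
      · exfalso
        have hub : L.z • (u • L.b) = u • L.b := by
          rw [← mul_smul, ← mem_centralizer_singleton_iff.1 (L.T_comm_z hu), mul_smul, L.z_b]
        rcases (L.fix_z _).1 hub with e' | e' | e'
        · exact L.ab (smul_left_cancel u ((L.T_fix_a hu).trans e'.symm))
        · exact hb e'
        · have := e ▸ hq.fix
          exact L.bb' (smul_left_cancel u (e'.trans this.symm))
  have hH : ∀ u : G, orderOf u = 2 → u • L.a = L.a → Special u L.a := by
    intro u hu hua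
    have : Fact (Nat.Prime 2) := ⟨Nat.prime_two⟩
    have hTH : (L.T : Subgroup G) ≤ stabilizer G L.a := fun t ht => L.T_fix_a ht
    let TH : Sylow 2 (stabilizer G L.a) := L.T.subtype hTH
    have hp : IsPGroup 2 (zpowers (⟨u, hua⟩ : stabilizer G L.a)) := by
      refine IsPGroup.of_card (n := 1) ?_
      rw [Nat.card_zpowers, ← Subgroup.orderOf_coe, pow_one]
      exact hu
    obtain ⟨R, hR⟩ := hp.exists_le_sylow
    obtain ⟨g, hg⟩ := MulAction.exists_smul_eq (stabilizer G L.a) R TH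
    have hm : g * ⟨u, hua⟩ * g⁻¹ ∈ (TH : Subgroup (stabilizer G L.a)) := by
      rw [← hg, Sylow.coe_subgroup_smul]
      exact ⟨_, hR (mem_zpowers _), rfl⟩
    have hsp := (hT ((g : G) * u * (g : G)⁻¹) hm (by rw [orderOf_conj', hu])).conj (g : G)⁻¹
    rw [show (g : G)⁻¹ * ((g : G) * u * (g : G)⁻¹) * ((g : G)⁻¹)⁻¹ = u by group,
      show (g : G)⁻¹ • L.a = L.a from (inv_mem g.2 : (g : G)⁻¹ ∈ stabilizer G L.a)] at hsp
    exact hsp
  have := h.S.prim
  obtain ⟨g, hg⟩ := MulAction.exists_smul_eq G L.a L.b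
  have hs := (hH (g⁻¹ * L.z * g) (by
      have := orderOf_conj' g⁻¹ L.z
      rw [inv_inv] at this
      rw [this, L.orderOf_z]) (by rw [mul_smul, mul_smul, hg, L.z_b, inv_smul_eq_iff, hg])).conj g
  rw [show g * (g⁻¹ * L.z * g) * g⁻¹ = L.z by group, hg] at hs
  exact L.ab (special_z_eq hs).symm

theorem BHyp.not_special_zv : ¬ Special (L.z * L.v) L.a := fun hs => h.not_special_v (by
  have := hs.conj L.σ⁻¹
  rwa [← L.σ_conj_v, show L.σ⁻¹ * (L.σ * L.v * L.σ⁻¹) * (L.σ⁻¹)⁻¹ = L.v by group,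
    inv_smul_eq_iff.2 L.σ_a.symm] at this)

/-- No fusion in the four-group by elements fixing `a`. -/
theorem BHyp.fuse {n : G} (hn : n • L.a = L.a)
    (hz : n * L.z * n⁻¹ = L.z ∨ n * L.z * n⁻¹ = L.v ∨ n * L.z * n⁻¹ = L.z * L.v) :
    n * L.z * n⁻¹ = L.z := by
  have hs := h.special_z.conj n
  rw [hn] at hs
  rcases hz with e | e | e
  · exact e
  · exact absurd (e ▸ hs) h.not_special_v
  · exact absurd (e ▸ hs) h.not_special_zv

end Cfsg.Agent.DegThreeP
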