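import Cfsg.Agent.DegThreeP.Basic
import Cfsg.Agent.DegPM2.Product
import Cfsg.Agent.OddChar.Twist
import Cfsg.Agent.Transfer.Frobenius
import Cfsg.Agent.DegThreeP.Imprimitive

/-!
# Simple primitive groups of degree `3p`: the case `f = p - 1`
-/

set_option autoImplicit false
set_option linter.style.haveILetI false
set_option linter.unusedSectionVars false

noncomputable section

namespace Cfsg.Agent.DegThreeP

open Cfsg Subgroup MulAction
open scoped Classical

universe u v

/-- The sum of a character over the powers of an element. -/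
theorem char_sum_powers {G : Type u} [Group G] [Finite G] {χ : G → ℂ} (hχ : IsCharacter G χ)
    {d : ℕ} (hd : χ 1 = d) (g : G) :
    ∃ m : ℕ, m ≤ d ∧ ∑ k ∈ Finset.range (orderOf g), χ (g ^ k) = (orderOf g : ℂ) * m ∧
      (m = d → χ g = χ 1) := by
  obtain ⟨n, ρ, rfl⟩ := hχ
  obtain ⟨ε, hε, hpow⟩ := Char.exists_character_eq_sum_roots ρ g
  have hn : Module.finrank ℂ (Fin n → ℂ) = d := by
    rw [Representation.char_one] at hd; exact_mod_cast hd
  refine ⟨(Finset.univ.filter fun i => ε i = 1).card, ?_, ?_, fun hm => ?_⟩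
  · exact hn ▸ (Finset.card_filter_le _ _).trans_eq (by simp)
  · simp only [hpow]
    rw [Finset.sum_comm, Finset.card_filter, Nat.cast_sum, Finset.mul_sum]
    refine Finset.sum_congr rfl fun i _ => ?_
    split_ifs with h
    · simp [h]
    · rw [geom_sum_eq h, hε i, sub_self, zero_div]; simp
  · have hall : ∀ i, ε i = 1 := by
      have h1 : (Finset.univ.filter fun i => ε i = 1) = Finset.univ :=
        Finset.eq_univ_of_card _ (by rw [hm, Fintype.card_fin, hn])
      intro i
      exact (Finset.mem_filter.1 (h1.ge (Finset.mem_univ i))).2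
    rw [show ρ.character g = ρ.character (g ^ 1) by rw [pow_one], hpow, Representation.char_one]
    simp [hall]

/-- Three roots of unity cannot have power sums `1, 1, 0`. -/
theorem three_roots_false {a b c : ℂ} {n : ℕ} (hn : n ≠ 0) (ha : a ^ n = 1) (hb : b ^ n = 1)
    (hc : c ^ n = 1) (h1 : a + b + c = 1) (h2 : a ^ 2 + b ^ 2 + c ^ 2 = 1)
    (h3 : a ^ 3 + b ^ 3 + c ^ 3 = 0) : False := by
  have he : a * b * c = -(1 / 3) := by
    linear_combination h3 / 3 - (a ^ 2 + b ^ 2 + c ^ 2 - a * b - a * c - b * c) / 3 * h1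
      - (1 / 3 : ℂ) * h2 + (1 / 3 : ℂ) * ((a + b + c + 1) / 2 * h1 - h2 / 2)
  have hu : (a * b * c) ^ n = 1 := by rw [mul_pow, mul_pow, ha, hb, hc, mul_one, mul_one]
  have h := congrArg norm hu
  rw [he, norm_pow, norm_one] at h
  have h' : ((1 : ℝ) / 3) ^ n = 1 := by simpa using h
  have : ((1 : ℝ) / 3) ^ n < 1 := pow_lt_one₀ (by norm_num) (by norm_num) hn
  linarith

variable {G : Type u} [Group G] [Fintype G] {Ω : Type v} [Fintype Ω] [MulAction G Ω] {p : ℕ}

namespace Setup

variable (S : Setup G Ω p)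
include S

theorem center_eq_bot : Subgroup.center G = ⊥ := by
  haveI := S.simple
  exact ((inferInstance : (Subgroup.center G).Normal)).eq_bot_or_eq_top.resolve_right fun h =>
    S.noncomm ⟨⟨fun a b => (Subgroup.mem_center_iff.1 (h.ge (Subgroup.mem_top b)) a)⟩⟩

theorem not_normal (H : Subgroup G) (hb : H ≠ ⊥) (ht : H ≠ ⊤) : ¬ H.Normal := fun h => by
  haveI := S.simple
  exact h.eq_bot_or_eq_top.elim hb ht

theorem card_stabilizer (a : Ω) : 3 * p * Nat.card (stabilizer G a) = Nat.card G := by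
  haveI := S.prim
  rw [← (stabilizer G a).card_mul_index, MulAction.index_stabilizer_of_transitive, S.card_points,
    mul_comm]

theorem isCoatom_stabilizer (a : Ω) : IsCoatom (stabilizer G a) := by
  haveI := S.prim
  haveI : Nontrivial Ω := by
    rw [← Fintype.one_lt_card_iff_nontrivial, ← Nat.card_eq_fintype_card, S.card_points]
    have := S.three_lt; omega
  exact IsPreprimitive.isCoatom_stabilizer_of_isPreprimitive G a

theorem exists_point : ∃ _a : Ω, True := by
  have h := S.card_points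
  have : 0 < Nat.card Ω := by rw [h]; have := S.three_lt; omega
  obtain ⟨⟨a⟩, -⟩ := Nat.card_pos_iff.1 this
  exact ⟨a, trivial⟩

/-- The case `p > 5`: the group is `SL(2, p - 1)`. -/
theorem false_of_deg_p_sub_two (hp5 : 5 < p) (hconj : ∀ t u : G, orderOf t = 2 → orderOf u = 2 → IsConj t u)
    (ψ : G → ℂ) (hψ : IsIrrCharacter G ψ) (hd : charDegree ψ = p - 2) (hne : ψ ≠ fun _ => 1) :
    False := by
  haveI := Fact.mk S.prime
  haveI := Fact.mk Nat.prime_two
  haveI := S.simple
  obtain ⟨P⟩ : Nonempty (Sylow p G) := inferInstance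
  obtain ⟨hPc, -, hN⟩ := S.sylow P
  obtain ⟨L, ψ', b, D, -⟩ := DegPM2.exists_data hp5 P hPc (sylow_not_normal S.three_lt P hN) hψ
    (SmallGroups.DegThree.faithful S.noncomm hψ hne).1 hd
  have S' := D.shape
  let e : G ⧸ Subgroup.center G ≃* G :=
    (QuotientGroup.quotientMulEquivOfEq S.center_eq_bot).trans QuotientGroup.quotientBot
  obtain ⟨a, ha⟩ := S'.hpow
  have hq4 := S'.hq4
  have hcard : Nat.card G = p * ((p - 1) * (p - 1 - 1)) := by
    rw [← Nat.card_congr e.toEquiv]; exact S'.card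
  have hinv : ∀ z y : G, orderOf z = 2 → Commute z y → ∃ j, orderOf y = 2 ^ j := fun z y hz hzy => by
    obtain ⟨j, hj⟩ := S'.hinv (e.symm z) (e.symm y) (by rw [MulEquiv.orderOf_eq, hz])
      (hzy.map e.symm.toMonoidHom)
    exact ⟨j, by rwa [MulEquiv.orderOf_eq] at hj⟩
  have hexp : ∀ x : G, (∃ j, orderOf x = 2 ^ j) → x * x = 1 := fun x hx => by
    have h := S'.hexp (e.symm x) (by simpa [MulEquiv.orderOf_eq] using hx)
    rw [← map_mul] at h
    exact e.symm.injective (h.trans (map_one _).symm)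
  set q := p - 1 with hq
  have hqodd : ¬ 2 ∣ p * (q - 1) := by
    have h1 : Odd p := S.p_odd
    have h2 : Odd (q - 1) := by
      obtain ⟨k, hk⟩ := h1
      exact ⟨k - 1, by omega⟩
    exact fun h => Nat.not_even_iff_odd.2 (Nat.odd_mul.2 ⟨h1, h2⟩) (even_iff_two_dvd.2 h)
  have hv : (Nat.card G).factorization 2 = a := by
    rw [hcard, show p * (q * (q - 1)) = q * (p * (q - 1)) by ring,
      Nat.factorization_mul (by omega) (Nat.mul_pos S.prime.pos (by omega)).ne', Finsupp.add_apply,
      Nat.factorization_eq_zero_of_not_dvd hqodd, add_zero, ha, Nat.factorization_pow,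
      Finsupp.smul_apply, Nat.prime_two.factorization_self, smul_eq_mul, mul_one]
  obtain ⟨pt, -⟩ := S.exists_point
  set H := stabilizer G pt with hH
  have hH3 : 3 * Nat.card H = q * (q - 1) := by
    refine Nat.eq_of_mul_eq_mul_left S.prime.pos ?_
    rw [← hcard, ← S.card_stabilizer pt]; ring
  obtain ⟨T₀⟩ : Nonempty (Sylow 2 H) := inferInstance
  have hT0 : Nat.card T₀ = q := by
    rw [T₀.card_eq_multiplicity, ha]
    congr 1
    have h1 := congrArg (fun n => n.factorization 2) hH3
    simp only [Nat.factorization_mul (by norm_num : (3 : ℕ) ≠ 0) Nat.card_pos.ne',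
      Nat.factorization_mul (show q ≠ 0 by omega) (show q - 1 ≠ 0 by omega), Finsupp.add_apply] at h1
    rw [ha, Nat.factorization_pow, Finsupp.smul_apply, Nat.prime_two.factorization_self, smul_eq_mul,
      mul_one, Nat.factorization_eq_zero_of_not_dvd (show ¬ 2 ∣ 3 by norm_num), zero_add] at h1
    rw [h1, Nat.factorization_eq_zero_of_not_dvd (show ¬ 2 ∣ 2 ^ a - 1 by
      rw [← ha]; intro h; exact hqodd (h.mul_left p)), add_zero]
  set TG := (T₀ : Subgroup H).map H.subtype with hTG
  have hTc : Nat.card TG = q := by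
    rw [← hT0]
    exact Nat.card_congr (Subgroup.equivMapOfInjective _ _ H.subtype_injective).symm.toEquiv
  let T : Sylow 2 G := Sylow.ofCard TG (by rw [hTc, hv, ha])
  have hTTG : (T : Subgroup G) = TG := rfl
  have hsq : ∀ (U : Sylow 2 G) (x : G), x ∈ (U : Subgroup G) → x * x = 1 := fun U x hx => by
    refine hexp x ?_
    obtain ⟨j, hj⟩ := (IsPGroup.iff_orderOf.1 U.2) ⟨x, hx⟩
    exact ⟨j, by rw [← hj, ← Subgroup.orderOf_coe]⟩
  have hab : ∀ (U : Sylow 2 G) (x y : G), x ∈ (U : Subgroup G) → y ∈ (U : Subgroup G) → x * y = y * x := by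
    intro U x y hx hy
    have h1 := hsq U _ (mul_mem hx hy)
    have h2 : ∀ z ∈ (U : Subgroup G), z⁻¹ = z := fun z hz => inv_eq_of_mul_eq_one_right (hsq U z hz)
    rw [← inv_eq_of_mul_eq_one_right h1, mul_inv_rev, h2 x hx, h2 y hy]
  have hcent : ∀ (U : Sylow 2 G) (z : G), z ∈ (U : Subgroup G) → z ≠ 1 →
      centralizer ({z} : Set G) = (U : Subgroup G) := fun U z hz h1 =>
    SmallGroups.centralizer_eq_sylow hinv U
      ⟨orderOf_eq_prime (by rw [pow_two]; exact hsq U z hz) h1, hz, fun s hs => hab U s z hs hz⟩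
  have hTI : ∀ (U : Sylow 2 G) (x : G), x ∈ (U : Subgroup G) → x ∈ (T : Subgroup G) → x ≠ 1 →
      (U : Subgroup G) = (T : Subgroup G) := fun U x hU hT h1 => by
    rw [← hcent U x hU h1, hcent T x hT h1]
  -- `H` normalises `T`
  have hnT : T₀.Normal := by
    by_contra hnn
    have hne : ∃ T₁ : Sylow 2 H, T₁ ≠ T₀ := by
      by_contra h
      push Not at h
      haveI : Subsingleton (Sylow 2 H) := ⟨fun x y => (h x).trans (h y).symm⟩
      exact hnn (Sylow.normal_of_subsingleton T₀)
    obtain ⟨T₁, hT1⟩ := hne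
    have hinj : Function.Injective fun x : (T₀ : Subgroup H) => (x : H) • T₁ := by
      intro x y hxy
      simp only at hxy
      by_contra hne
      have hs : ((y : H)⁻¹ * x) • T₁ = T₁ := by rw [mul_smul, hxy, inv_smul_smul]
      have hmem : ((y : H)⁻¹ * x) ∈ (T₁ : Subgroup H) := by
        exact ((IsPGroup.inf_normalizer_sylow T₀.2 T₁).le (Subgroup.mem_inf.2
          ⟨mul_mem (inv_mem y.2) x.2, Sylow.smul_eq_iff_mem_normalizer.1 hs⟩)).2
      have hne1 : (y : H)⁻¹ * x ≠ 1 := fun h =>
        hne (Subtype.ext (inv_mul_eq_one.1 h).symm)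
      obtain ⟨U, hU⟩ := (T₁.2.map H.subtype).exists_le_sylow
      have hUT := hTI U (((y : H)⁻¹ * x : H) : G) (hU ⟨_, hmem, rfl⟩)
        (hTTG.symm ▸ ⟨_, mul_mem (inv_mem y.2) x.2, rfl⟩) (fun h => hne1 (Subtype.ext h))
      refine hT1 (Sylow.ext (T₁.3 T₀.2 ?_)).symm
      intro z hz
      have hz' : (z : G) ∈ TG := hTTG ▸ hUT ▸ hU ⟨z, hz, rfl⟩
      obtain ⟨w, hw, hwz⟩ := hz'
      rwa [Subtype.ext hwz] at hw
    have h1 := Nat.card_le_card_of_injective _ hinj
    have h2 := Nat.le_of_dvd (Nat.pos_of_ne_zero Subgroup.index_ne_zero_of_finite) T₀.card_dvd_index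
    have h3 : q * (T₀ : Subgroup H).index = Nat.card H := by
      rw [← hT0]; exact (T₀ : Subgroup H).card_mul_index
    have h4 : 3 * (T₀ : Subgroup H).index = q - 1 := by
      refine Nat.eq_of_mul_eq_mul_left (show 0 < q by omega) ?_
      rw [← hH3, ← h3]; ring
    rw [show Nat.card (T₀ : Subgroup H) = q from hT0] at h1
    omega
  have hHN : H ≤ Subgroup.normalizer ((T : Subgroup G) : Set G) := by
    intro h hh
    rw [hTTG, Subgroup.mem_normalizer_iff]
    intro x
    constructor
    · rintro ⟨w, hw, rfl⟩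
      exact ⟨⟨h, hh⟩ * w * ⟨h, hh⟩⁻¹, hnT.conj_mem w hw ⟨h, hh⟩, by simp⟩
    · rintro ⟨w, hw, hwx⟩
      refine ⟨⟨h, hh⟩⁻¹ * w * ⟨h, hh⟩, ?_, ?_⟩
      · have := hnT.conj_mem w hw ⟨h, hh⟩⁻¹
        rwa [inv_inv] at this
      simp only [Subgroup.coe_subtype] at hwx ⊢
      rw [Subgroup.coe_mul, Subgroup.coe_mul, Subgroup.coe_inv, hwx]
      group
  have hTb : (T : Subgroup G) ≠ ⊥ := fun h => by
    rw [← hTTG, h, Subgroup.card_bot] at hTc; omega
  have hTt : (T : Subgroup G) ≠ ⊤ := fun h => by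
    have h1 : Nat.card (T : Subgroup G) = q := hTc
    rw [h, Subgroup.card_top] at h1
    have h2 : p ∣ q := h1 ▸ hcard ▸ dvd_mul_right p _
    have := Nat.le_of_dvd (by omega) h2
    omega
  have hNH : Subgroup.normalizer ((T : Subgroup G) : Set G) = H := by
    by_contra h
    exact S.not_normal _ hTb hTt (Subgroup.normalizer_eq_top_iff.1
      ((S.isCoatom_stabilizer pt).2 _ (lt_of_le_of_ne hHN (Ne.symm h))))
  -- `H` is transitive on the involutions of `T`
  obtain ⟨z, hz, hz1⟩ := (Subgroup.bot_or_exists_ne_one (T : Subgroup G)).resolve_left hTb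
  have hord : ∀ x ∈ (T : Subgroup G), x ≠ 1 → orderOf x = 2 := fun x hx h1 =>
    orderOf_eq_prime (by rw [pow_two]; exact hsq T x hx) h1
  have hg : ∀ x : {x : (T : Subgroup G) // x ≠ 1}, ∃ g ∈ H, g * z * g⁻¹ = (x.1 : G) := by
    rintro ⟨⟨x, hx⟩, hx1⟩
    have hx1' : x ≠ 1 := fun h => hx1 (Subtype.ext h)
    obtain ⟨g, hg⟩ := isConj_iff.1 (hconj z x (hord z hz hz1) (hord x hx hx1'))
    refine ⟨g, ?_, hg⟩
    rw [← hNH]
    refine Sylow.smul_eq_iff_mem_normalizer.1 ?_
    refine Sylow.ext (hTI (g • T) x ?_ hx hx1')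
    rw [← hg, Sylow.coe_subgroup_smul]
    exact Subgroup.smul_mem_pointwise_smul _ (MulAut.conj g) _ hz
  choose g hgH hgz using hg
  let f : {x : (T : Subgroup G) // x ≠ 1} × (T : Subgroup G) → H := fun xs =>
    ⟨g xs.1 * (xs.2 : G), mul_mem (hgH _) (Subgroup.map_subtype_le _ (show (xs.2 : G) ∈ TG from xs.2.2))⟩
  have hf : Function.Injective f := by
    rintro ⟨x, s⟩ ⟨y, r⟩ h
    have h' : g x * (s : G) = g y * (r : G) := congrArg Subtype.val h
    have hzx : ∀ (w : {x : (T : Subgroup G) // x ≠ 1}) (s : (T : Subgroup G)),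
        g w * (s : G) * z * (g w * (s : G))⁻¹ = (w.1 : G) := fun w s => by
      rw [mul_assoc (g w), hab T _ _ s.2 hz, ← mul_assoc (g w), mul_inv_rev]
      simp [mul_assoc, ← hgz w]
    have hxy : x = y := Subtype.ext (Subtype.ext (by rw [← hzx x s, ← hzx y r, h']))
    subst hxy
    exact Prod.ext rfl (Subtype.ext (mul_left_cancel h'))
  have h5 := Nat.card_le_card_of_injective f hf
  rw [Nat.card_prod, show Nat.card (T : Subgroup G) = q from hTc] at h5
  have h6 : Nat.card {x : (T : Subgroup G) // x ≠ 1} = q - 1 := by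
    rw [Nat.card_eq_fintype_card, Fintype.card_subtype_compl, Fintype.card_subtype_eq,
      ← Nat.card_eq_fintype_card, show Nat.card (T : Subgroup G) = q from hTc]
  rw [h6, mul_comm] at h5
  have : 0 < q * (q - 1) := Nat.mul_pos (by omega) (by omega)
  omega

end Setup

/-- The case `f = p - 1` does not occur. -/
theorem low (S : Setup G Ω p) {f : ℕ} (hf : f = p - 1) (C : Chars G p f) {a : ℤ} {c : ℕ}
    (I : Invol C a c) (ha : (4 : ℤ) ∣ f - a) (haf : |a| < f) : False := by
  haveI := Fact.mk S.prime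
  haveI := Fact.mk Nat.prime_two
  haveI := S.simple
  have hp5 := S.five_le
  obtain ⟨ψ, hψY⟩ : C.Y.Nonempty := Finset.card_pos.1 (by rw [C.card_Y]; omega)
  have h1reg : ¬ p ∣ orderOf (1 : G) := by rw [orderOf_one]; exact S.prime.not_dvd_one
  have hψ1 : (ψ : G → ℂ) 1 = ((p - 2 : ℕ) : ℂ) := by
    rw [C.Y_regular ψ hψY 1 h1reg, C.deg_X, hf, show p - 1 = (p - 2) + 1 by omega]
    push_cast; ring
  have hψd : charDegree (ψ : G → ℂ) = p - 2 := Char.charDegree_of_eq hψ1
  rcases Nat.lt_or_ge 5 p with hp | hp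
  · exact S.false_of_deg_p_sub_two hp I.isConj ψ ψ.2 hψd (C.one_not_mem ψ hψY)
  obtain rfl : p = 5 := by omega
  subst hf
  have hfaith := (SmallGroups.DegThree.faithful S.noncomm ψ.2 (C.one_not_mem ψ hψY)).1
  norm_num at hψ1
  -- the twist
  have hX : ∀ j : ℕ, j.Coprime (Nat.card G) → ∀ g : G, (C.X : G → ℂ) (g ^ j) = (C.X : G → ℂ) g := by
    intro j hj g
    set χ : IrrCharacter G := ⟨_, OddChar.irr_twist C.X.2 hj⟩ with hχ
    have hχ1 : (χ : G → ℂ) 1 = ((4 : ℕ) : ℂ) := by
      show (C.X : G → ℂ) ((1 : G) ^ j) = _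
      rw [one_pow, C.deg_X]
    have : χ = C.X := by
      by_contra hne
      have h1 : (χ : G → ℂ) ≠ fun _ => 1 := fun h => by
        rw [congrFun h 1] at hχ1; norm_num at hχ1
      have h2 : χ ∉ C.Y := fun h => by
        have h3 := C.Y_regular χ h 1 h1reg
        rw [hχ1, C.deg_X] at h3; norm_num at h3
      have h3 := (C.other χ h1 hne h2).1
      rw [Char.charDegree_of_eq hχ1] at h3
      norm_num at h3
    exact congrFun (congrArg Subtype.val this) g
  -- constancy on the generators of a cyclic subgroup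
  have htw : ∀ g : G, ¬ 5 ∣ orderOf g → ∀ k : ℕ, k.Coprime (orderOf g) →
      (ψ : G → ℂ) (g ^ k) = (ψ : G → ℂ) g := by
    intro g hg k hk
    haveI : NeZero (Nat.card G) := ⟨Nat.card_pos.ne'⟩
    obtain ⟨j, hj, hjk, -⟩ := OddChar.exists_coprime_exponent (n := Nat.card G) (a := orderOf g)
      (b := 1) (by rw [mul_one]; exact orderOf_dvd_natCard g) (Nat.coprime_one_right _) hk
    have e : g ^ k = g ^ j := pow_eq_pow_iff_modEq.2 hjk.symm
    rw [C.Y_regular ψ hψY _ fun h => hg (h.trans (orderOf_pow_dvd k)), C.Y_regular ψ hψY g hg, e,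
      hX j hj]
  have hint : ∀ (g : G) (A B : ℤ), B ≠ 0 → (B : ℂ) * (ψ : G → ℂ) g = A →
      ∃ Z : ℤ, (ψ : G → ℂ) g = Z ∧ B * Z = A := by
    intro g A B hB h
    have hv : (ψ : G → ℂ) g = (((A : ℚ) / B : ℚ) : ℂ) := by
      push_cast
      rw [eq_div_iff (by exact_mod_cast hB), ← h, mul_comm]
    obtain ⟨Z, hZ⟩ := Char.exists_int_of_isIntegral_rat
      (hv ▸ Char.isCharacter_isIntegral (Char.isCharacter_of_irr ψ.2) g)
    refine ⟨Z, by rw [hv, hZ]; simp, ?_⟩
    rw [div_eq_iff (by exact_mod_cast hB)] at hZ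
    have : (B * Z : ℤ) = A := by
      have h' : ((B * Z : ℤ) : ℚ) = (A : ℚ) := by rw [hZ]; push_cast; ring
      exact_mod_cast h'
    exact this
  have hne1 : ∀ g : G, g ≠ 1 → (ψ : G → ℂ) g ≠ 3 := fun g hg h => hg (hfaith g (by rw [h, hψ1]))
  -- elements of prime order
  have hprime : ∀ (r : ℕ) (g : G), r.Prime → r ≠ 2 → r ≠ 5 → orderOf g = r →
      r = 3 ∧ (ψ : G → ℂ) g = 0 := by
    intro r g hr h2 h5 hg
    have hg5 : ¬ 5 ∣ orderOf g := by
      rw [hg]; exact fun h => h5 ((Nat.prime_dvd_prime_iff_eq Nat.prime_five hr).1 h).symm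
    obtain ⟨m, hm, hsum, hmd⟩ := char_sum_powers (Char.isCharacter_of_irr ψ.2) (d := 3)
      (by rw [hψ1]; norm_num) g
    have hne : g ≠ 1 := fun h => by rw [h, orderOf_one] at hg; exact hr.ne_one hg.symm
    have hm3 : m ≠ 3 := fun h => hne (hfaith g (hmd h))
    obtain ⟨r', rfl⟩ : ∃ r', r = r' + 1 := ⟨r - 1, by have := hr.two_le; omega⟩
    rw [hg, Finset.sum_range_succ', pow_zero, hψ1, Finset.sum_congr rfl fun k hk => htw g hg5 (k + 1) (by
      rw [hg, Nat.coprime_comm, hr.coprime_iff_not_dvd]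
      intro h
      have := Nat.le_of_dvd (by omega) h
      have := Finset.mem_range.1 hk
      omega), Finset.sum_const, Finset.card_range, nsmul_eq_mul] at hsum
    obtain ⟨Z, hZ, hZe⟩ := hint g (((r' : ℤ) + 1) * m - 3) r' (by have := hr.two_le; omega)
      (by push_cast at hsum ⊢; linear_combination hsum)
    have hmod : ((r' : ℤ)) ∣ (3 - (m : ℤ)) := ⟨(m : ℤ) - Z, by linear_combination hZe⟩
    have hle := Int.le_of_dvd (by omega) hmod
    have h27 : r' + 1 ≠ 4 := fun h => by rw [h] at hr; exact absurd hr (by norm_num)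
    have hr2 : r' = 2 := by have := hr.two_le; omega
    subst hr2
    refine ⟨rfl, ?_⟩
    have hm1 : m = 1 := by
      obtain ⟨k, hk⟩ := hmod
      omega
    subst hm1
    rw [hZ, show Z = 0 by omega, Int.cast_zero]
  -- no elements of order `9`
  have hnine : ∀ g : G, orderOf g ≠ 9 := by
    intro g hg
    have hg5 : ¬ 5 ∣ orderOf g := by rw [hg]; norm_num
    have h3 : orderOf (g ^ 3) = 3 := by rw [orderOf_pow, hg]; rfl
    have v3 := (hprime 3 _ Nat.prime_three (by norm_num) (by norm_num) h3).2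
    have h6 : orderOf (g ^ 6) = 3 := by rw [orderOf_pow, hg]; rfl
    have v6 := (hprime 3 _ Nat.prime_three (by norm_num) (by norm_num) h6).2
    obtain ⟨m, hm, hsum, hmd⟩ := char_sum_powers (Char.isCharacter_of_irr ψ.2) (d := 3)
      (by rw [hψ1]; norm_num) g
    have hne : g ≠ 1 := fun h => by rw [h, orderOf_one] at hg; norm_num at hg
    have hm3 : m ≠ 3 := fun h => hne (hfaith g (hmd h))
    have hco : ∀ k : ℕ, k.Coprime 9 → (ψ : G → ℂ) (g ^ k) = (ψ : G → ℂ) g := fun k hk =>
      htw g hg5 k (by rw [hg]; exact hk)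
    simp only [hg, Finset.sum_range_succ, Finset.sum_range_zero, pow_zero, pow_one, v3, v6, hψ1,
      hco 2 (by norm_num), hco 4 (by norm_num), hco 5 (by norm_num), hco 7 (by norm_num),
      hco 8 (by norm_num)] at hsum
    obtain ⟨Z, hZ, hZe⟩ := hint g (9 * m - 3) 6 (by norm_num)
      (by push_cast at hsum ⊢; linear_combination hsum)
    have hm1 : m = 1 := by omega
    have hz1 : (ψ : G → ℂ) g = 1 := by rw [hZ, show Z = 1 by omega, Int.cast_one]
    obtain ⟨n, ρ, -, hρ⟩ := ψ.2
    obtain ⟨ε, hε, hpow⟩ := Char.exists_character_eq_sum_roots ρ g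
    have hn : Module.finrank ℂ (Fin n → ℂ) = 3 := by
      have h := hψ1
      rw [← hρ, Representation.char_one] at h
      exact_mod_cast h
    have hval : ∀ k, (ψ : G → ℂ) (g ^ k) =
        ε (Fin.cast hn.symm 0) ^ k + ε (Fin.cast hn.symm 1) ^ k + ε (Fin.cast hn.symm 2) ^ k := by
      intro k
      rw [← hρ, hpow k, ← (finCongr hn.symm).sum_comp, Fin.sum_univ_three]
      rfl
    have e1 := hval 1
    have e2 := hval 2
    have e3 := hval 3
    rw [pow_one] at e1
    rw [hco 2 (by norm_num)] at e2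
    rw [v3] at e3
    rw [hz1] at e1 e2
    simp only [pow_one] at e1
    exact three_roots_false (orderOf_pos g).ne' (hε _) (hε _) (hε _) e1.symm e2.symm e3.symm
  -- the order
  have h45 : 4 * Nat.card G = 15 * c ^ 2 := by
    have hf := I.formula
    have ha0 : a = 0 := by
      have := abs_lt.1 haf
      obtain ⟨k, hk⟩ := ha
      push_cast at this hk
      omega
    rw [ha0] at hf
    push_cast at hf
    have : (4 * Nat.card G : ℤ) = 15 * (c : ℤ) ^ 2 := by linarith
    exact_mod_cast this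
  have hG0 : Nat.card G ≠ 0 := Nat.card_pos.ne'
  have hc0 : c ≠ 0 := fun h => by rw [h] at h45; omega
  have hvc : ∀ r : ℕ, (4 * Nat.card G).factorization r = (15 : ℕ).factorization r + 2 * c.factorization r := by
    intro r
    rw [h45, Nat.factorization_mul (by norm_num) (pow_ne_zero 2 hc0), Finsupp.add_apply,
      Nat.factorization_pow, Finsupp.smul_apply, smul_eq_mul]
  have hv4 : ∀ r : ℕ, (4 * Nat.card G).factorization r = (4 : ℕ).factorization r + (Nat.card G).factorization r := by
    intro r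
    rw [Nat.factorization_mul (by norm_num) hG0, Finsupp.add_apply]
  have h4f : (4 : ℕ).factorization 2 = 2 := by
    rw [show (4 : ℕ) = 2 ^ 2 by norm_num, Nat.factorization_pow, Finsupp.smul_apply,
      Nat.prime_two.factorization_self]; rfl
  have hv2 : (Nat.card G).factorization 2 = 2 := by
    obtain ⟨T⟩ : Nonempty (Sylow 2 G) := inferInstance
    have e := hvc 2
    rw [hv4, h4f, Nat.factorization_eq_zero_of_not_dvd (show ¬ 2 ∣ 15 by norm_num)] at e
    have h2G : 2 ∣ Nat.card G := by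
      obtain ⟨t, ht⟩ := I.exists_invol
      exact ht ▸ orderOf_dvd_natCard t
    have hT : Nontrivial (T : Subgroup G) := by
      rw [← Finite.one_lt_card_iff_nontrivial, T.card_eq_multiplicity]
      exact Nat.one_lt_two_pow (Nat.prime_two.factorization_pos_of_dvd hG0 h2G).ne'
    haveI := T.2.center_nontrivial
    obtain ⟨z, hz⟩ := exists_prime_orderOf_dvd_card' (G := Subgroup.center (T : Subgroup G)) 2 (by
      obtain ⟨k, hk⟩ := (T.2.to_subgroup (Subgroup.center (T : Subgroup G))).exists_card_eq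
      rw [hk]
      exact dvd_pow_self 2 fun h => by
        have := Finite.one_lt_card (α := Subgroup.center (T : Subgroup G))
        rw [hk, h] at this; omega)
    have hz2 : orderOf ((z : (T : Subgroup G)) : G) = 2 := by
      rw [Subgroup.orderOf_coe, Subgroup.orderOf_coe, hz]
    have hle : (T : Subgroup G) ≤ centralizer ({((z : (T : Subgroup G)) : G)} : Set G) := fun s hs =>
      mem_centralizer_singleton_iff.2 (congrArg Subtype.val (Subgroup.mem_center_iff.1 z.2 ⟨s, hs⟩))
    have hd := Subgroup.card_dvd_of_le hle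
    rw [I.card_centralizer _ hz2, T.card_eq_multiplicity] at hd
    have h1 : (Nat.card G).factorization 2 ≤ c.factorization 2 :=
      (Nat.prime_two.pow_dvd_iff_le_factorization hc0).1 hd
    have h2 : c.factorization 2 ≤ (Nat.card G).factorization 2 := by
      obtain ⟨t, ht⟩ := I.exists_invol
      exact (Nat.factorization_le_iff_dvd hc0 hG0).2
        (I.card_centralizer t ht ▸ Subgroup.card_subgroup_dvd_card _) 2
    omega
  have hv3 : (Nat.card G).factorization 3 ≤ 1 := by
    haveI := Fact.mk Nat.prime_three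
    obtain ⟨R⟩ : Nonempty (Sylow 3 G) := inferInstance
    have hR : ∀ x : (R : Subgroup G), x ≠ 1 → (ψ : G → ℂ) (x : G) = 0 := by
      intro x hx
      obtain ⟨k, hk⟩ := (IsPGroup.iff_orderOf.1 R.2) x
      rw [← Subgroup.orderOf_coe] at hk
      have hk1 : k = 1 := by
        rcases Nat.lt_or_ge k 2 with h | h
        · rcases Nat.eq_zero_or_pos k with h0 | h0
          · rw [h0, pow_zero, orderOf_eq_one_iff] at hk
            exact absurd (Subtype.ext hk) hx
          · omega
        · exfalso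
          refine hnine ((x : G) ^ (3 ^ (k - 2))) ?_
          rw [orderOf_pow' _ (by positivity), hk, Nat.gcd_eq_right (pow_dvd_pow 3 (by omega)),
            Nat.pow_div (by omega) (by norm_num), show k - (k - 2) = 2 by omega]
      rw [hk1, pow_one] at hk
      exact (hprime 3 _ Nat.prime_three (by norm_num) (by norm_num) hk).2
    have hres := Char.isCharacter_restrict (Char.isCharacter_of_irr ψ.2) (R : Subgroup G)
    obtain ⟨n, hn⟩ := Char.isCharacter_classInner_nat hres (Char.trivialIrr _)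
    have hsum : ∑ x : (R : Subgroup G), (ψ : G → ℂ) (x : G) = 3 := by
      rw [Finset.sum_eq_single 1 (fun x _ hx => hR x hx) (fun h => absurd (Finset.mem_univ _) h),
        OneMemClass.coe_one, hψ1]
    simp only [classInner, Char.trivialIrr, map_one, mul_one] at hn
    rw [hsum] at hn
    have hd : Nat.card (R : Subgroup G) ∣ 3 := by
      refine ⟨n, ?_⟩
      have hne : (Nat.card (R : Subgroup G) : ℂ) ≠ 0 := Nat.cast_ne_zero.2 Nat.card_pos.ne'
      have : (3 : ℂ) = (Nat.card (R : Subgroup G) : ℂ) * n := by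
        rw [← hn, ← mul_assoc, mul_inv_cancel₀ hne, one_mul]
      exact_mod_cast this
    rw [R.card_eq_multiplicity] at hd
    have := Nat.le_of_dvd (by norm_num) hd
    by_contra hcon
    have : 3 ^ 2 ≤ 3 ^ (Nat.card G).factorization 3 := Nat.pow_le_pow_right (by norm_num) (by omega)
    omega
  obtain ⟨P⟩ : Nonempty (Sylow 5 G) := inferInstance
  have hv5 : (Nat.card G).factorization 5 = 1 := by
    have h := (S.sylow P).1
    rw [P.card_eq_multiplicity] at h
    exact Nat.pow_right_injective (by norm_num : 2 ≤ 5) (h.trans (pow_one 5).symm)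
  have h60 : Nat.card G ∣ 60 := by
    refine (Nat.factorization_le_iff_dvd hG0 (by norm_num)).1 fun r => ?_
    by_cases hr : r.Prime
    · by_cases hd : r ∣ Nat.card G
      · rcases eq_or_ne r 2 with rfl | h2
        · rw [hv2]
          exact (Nat.prime_two.pow_dvd_iff_le_factorization (by norm_num)).1 (by norm_num)
        rcases eq_or_ne r 5 with rfl | h5
        · rw [hv5]
          exact (Nat.prime_five.pow_dvd_iff_le_factorization (by norm_num)).1 (by norm_num)
        haveI := Fact.mk hr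
        obtain ⟨x, hx⟩ := exists_prime_orderOf_dvd_card' (G := G) r hd
        obtain ⟨rfl, -⟩ := hprime r x hr h2 h5 hx
        exact hv3.trans ((Nat.prime_three.pow_dvd_iff_le_factorization (by norm_num)).1 (by norm_num))
      · rw [Nat.factorization_eq_zero_of_not_dvd hd]; exact Nat.zero_le _
    · rw [Nat.factorization_eq_zero_of_not_prime _ hr]; exact Nat.zero_le _
  have h4 : 4 ∣ Nat.card G :=
    (Nat.prime_two.pow_dvd_iff_le_factorization hG0 (k := 2)).2 hv2.ge
  have h15 : 15 ∣ Nat.card G :=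
    Nat.Coprime.dvd_of_dvd_mul_left (by norm_num : Nat.Coprime 15 4) ⟨c ^ 2, h45⟩
  have hG : Nat.card G = 60 :=
    Nat.dvd_antisymm h60 (Nat.Coprime.mul_dvd_of_dvd_of_dvd (by norm_num : Nat.Coprime 4 15) h4 h15)
  -- the stabiliser is an abelian Sylow subgroup
  obtain ⟨pt, -⟩ := S.exists_point
  have hH : Nat.card (stabilizer G pt) = 2 ^ 2 := by
    have := S.card_stabilizer pt
    omega
  let T : Sylow 2 G := Sylow.ofCard (stabilizer G pt) (by rw [hH, hv2])
  have hT : (T : Subgroup G) = stabilizer G pt := rfl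
  have hHb : stabilizer G pt ≠ ⊥ := fun h => by rw [h, Subgroup.card_bot] at hH; norm_num at hH
  have hN : Subgroup.normalizer ((T : Subgroup G) : Set G) = (T : Subgroup G) := by
    by_contra h
    rw [hT] at h
    exact S.not_normal _ hHb (S.isCoatom_stabilizer pt).1 (Subgroup.normalizer_eq_top_iff.1
      ((S.isCoatom_stabilizer pt).2 _ (lt_of_le_of_ne Subgroup.le_normalizer (Ne.symm h))))
  have hle : Subgroup.normalizer ((T : Subgroup G) : Set G) ≤ centralizer ((T : Subgroup G) : Set G) := by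
    rw [hN]
    intro x hx
    rw [mem_centralizer_iff]
    intro y hy
    exact congrArg Subtype.val (IsPGroup.commutative_of_card_eq_prime_sq
      (show Nat.card (T : Subgroup G) = 2 ^ 2 from hH) ⟨y, hy⟩ ⟨x, hx⟩)
  obtain ⟨Q, N, hNn, hcompl⟩ := Transfer.hasNormalPComplement_of_normalizer_le_centralizer T hle
  have hQ : Nat.card Q = 4 := by
    rw [Q.card_eq_multiplicity, hv2]; norm_num
  have hNc := hcompl.card_mul_card
  rw [show Nat.card (Q : Subgroup G) = 4 from hQ, hG] at hNc
  refine S.not_normal N (fun h => ?_) (fun h => ?_) hNn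
  · rw [h, Subgroup.card_bot] at hNc; omega
  · rw [h, Subgroup.card_top, hG] at hNc; omega

end Cfsg.Agent.DegThreeP
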